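import Mathlib.Tactic

/-!
# The degree equation

No column of norm eight with the congruences of a Sylow subgroup of order eight fits an index `n = 9, 33`.
-/

set_option autoImplicit false

namespace Cfsg.Lib.HallNumbers

theorem neg_term {a d : ℤ} (ha : a < 0) (n : ℕ) (h : d + 7 * a = 8 * n) :
    ((a : ℚ) ^ 3 / d = -(a : ℚ) ^ 2 / 7 ∨ -(a : ℚ) ^ 2 / 7 + 8 / 105 ≤ (a : ℚ) ^ 3 / d) ∧
      a * d ≤ -7 * a ^ 2 := by
  have hn : (0 : ℤ) ≤ n := Int.natCast_nonneg n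
  refine ⟨?_, by nlinarith⟩
  rcases Nat.eq_zero_or_pos n with rfl | hn1
  · left
    have hd : d = -7 * a := by push_cast at h; omega
    subst hd
    have : (a : ℚ) ≠ 0 := Int.cast_ne_zero.2 ha.ne
    push_cast
    field_simp
  · right
    have hd : (d : ℚ) = 8 * n - 7 * a := by exact_mod_cast (by omega : d = 8 * (n : ℤ) - 7 * a)
    have h1 : (1 : ℚ) ≤ n := by exact_mod_cast hn1
    have ha' : (a : ℚ) ≤ -1 := by exact_mod_cast (by omega : a ≤ -1)
    have hpos : (0 : ℚ) < d := by rw [hd]; linarith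
    rw [le_div_iff₀ hpos, hd]
    nlinarith [mul_nonneg (sub_nonneg.2 h1) (sq_nonneg (a : ℚ)), mul_nonneg (sub_nonneg.2 ha') (sub_nonneg.2 ha'),
      sq_nonneg (a : ℚ)]

/-- The equation has no solution. -/
theorem false_of_column {ι : Type*} [Fintype ι] [DecidableEq ι] (A : ι → ℤ) (d : ι → ℕ) (i₀ : ι)
    (hA0 : A i₀ = 1) (hd0 : d i₀ = 1) (hdpos : ∀ i, 0 < d i)
    (hnorm : ∑ i, A i ^ 2 = 8) (horth : ∑ i, A i * (d i : ℤ) = 0)
    (hcong : ∀ i, A i ≠ 0 → ∃ n : ℕ, (d i : ℤ) + 7 * A i = 8 * n)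
    (n : ℕ) (h8 : n % 8 = 1) (h3 : 3 ∣ n) (h9 : ¬ 9 ∣ n)
    (heq : (n : ℚ) * ∑ i, (A i : ℚ) ^ 3 / (d i : ℚ) = 48 / 7) : False := by
  classical
  obtain ⟨R, hR⟩ : ∃ R, R = Finset.univ.erase i₀ := ⟨_, rfl⟩
  have split : ∀ {α : Type} [AddCommMonoid α] (f : ι → α), ∑ i, f i =
      f i₀ + (∑ i ∈ R.filter (fun i => A i < 0), f i + ∑ i ∈ R.filter (fun i => ¬ A i < 0), f i) := by
    intro α _ f
    rw [Finset.sum_filter_add_sum_filter_not, hR, Finset.add_sum_erase _ _ (Finset.mem_univ _)]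
  obtain ⟨Nneg, hN⟩ : ∃ N, N = ∑ i ∈ R.filter (fun i => A i < 0), A i ^ 2 := ⟨_, rfl⟩
  obtain ⟨Ppos, hP⟩ : ∃ P, P = ∑ i ∈ R.filter (fun i => ¬ A i < 0), A i ^ 2 := ⟨_, rfl⟩
  rw [split, hA0, ← hN, ← hP] at hnorm
  rw [split, hA0, hd0] at horth
  rw [split, hA0, hd0] at heq
  have hPnn : 0 ≤ Ppos := hP ▸ Finset.sum_nonneg fun i _ => sq_nonneg _
  have hneg : ∀ i ∈ R.filter (fun i => A i < 0),
      ((A i : ℚ) ^ 3 / (d i : ℚ) = -(A i : ℚ) ^ 2 / 7 ∨
        -(A i : ℚ) ^ 2 / 7 + 8 / 105 ≤ (A i : ℚ) ^ 3 / (d i : ℚ)) ∧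
      A i * (d i : ℤ) ≤ -7 * A i ^ 2 := by
    intro i hi
    obtain ⟨m, hm⟩ := hcong i (Finset.mem_filter.1 hi).2.ne
    have := neg_term (Finset.mem_filter.1 hi).2 m hm
    simpa using this
  have hlow : ∀ i ∈ R.filter (fun i => A i < 0), -(A i : ℚ) ^ 2 / 7 ≤ (A i : ℚ) ^ 3 / (d i : ℚ) := by
    intro i hi
    rcases (hneg i hi).1 with e | e
    · exact e.ge
    · linarith
  have hposterm : ∀ i ∈ R.filter (fun i => ¬ A i < 0), 0 ≤ (A i : ℚ) ^ 3 / (d i : ℚ) := fun i hi =>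
    div_nonneg (pow_nonneg (by exact_mod_cast not_lt.1 (Finset.mem_filter.1 hi).2) _) (by positivity)
  -- not all negative
  have hN6 : Nneg ≤ 6 := by
    by_contra hgt
    have hP0 : Ppos = 0 := by omega
    have hz : ∀ i ∈ R.filter (fun i => ¬ A i < 0), A i = 0 := fun i hi =>
      pow_eq_zero_iff (two_ne_zero) |>.1
        ((Finset.sum_eq_zero_iff_of_nonneg fun i _ => sq_nonneg (A i)).1 (hP ▸ hP0) i hi)
    rw [Finset.sum_eq_zero (s := R.filter fun i => ¬ A i < 0) fun i hi => by rw [hz i hi, zero_mul],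
      add_zero] at horth
    have h1 := Finset.sum_le_sum fun i hi => (hneg i hi).2
    rw [← Finset.mul_sum, ← hN] at h1
    push_cast at horth
    omega
  obtain ⟨sneg, hS⟩ : ∃ s, s = ∑ i ∈ R.filter (fun i => A i < 0), (A i : ℚ) ^ 3 / (d i : ℚ) := ⟨_, rfl⟩
  obtain ⟨spos, hT⟩ : ∃ s, s = ∑ i ∈ R.filter (fun i => ¬ A i < 0), (A i : ℚ) ^ 3 / (d i : ℚ) := ⟨_, rfl⟩
  rw [← hS, ← hT] at heq
  have hT0 : 0 ≤ spos := hT ▸ Finset.sum_nonneg hposterm
  have hSsum : ∑ i ∈ R.filter (fun i => A i < 0), -(A i : ℚ) ^ 2 / 7 = -(Nneg : ℚ) / 7 := by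
    rw [hN, ← Finset.sum_div, Finset.sum_neg_distrib]
    push_cast
    rfl
  have hSlow : -(Nneg : ℚ) / 7 ≤ sneg := by rw [hS, ← hSsum]; exact Finset.sum_le_sum hlow
  have hNq : (Nneg : ℚ) ≤ 6 := by exact_mod_cast hN6
  have heq' : (n : ℚ) * (1 + (sneg + spos)) = 48 / 7 := by
    rw [← heq]; push_cast; ring
  have hn48 : n ≤ 48 := by
    by_contra hgt
    have : (49 : ℚ) ≤ n := by exact_mod_cast (by omega : 49 ≤ n)
    nlinarith
  obtain rfl : n = 33 := by omega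
  push_cast at heq'
  -- five negative units are too few
  have hN6' : Nneg = 6 := by
    by_contra hne
    have : (Nneg : ℚ) ≤ 5 := by exact_mod_cast (by omega : Nneg ≤ 5)
    linarith
  have hP1 : Ppos = 1 := by omega
  -- every negative term is extremal
  have hexact : sneg = -(6 : ℚ) / 7 := by
    have he : ∀ i ∈ R.filter (fun i => A i < 0), (A i : ℚ) ^ 3 / (d i : ℚ) = -(A i : ℚ) ^ 2 / 7 := by
      intro i hi
      refine ((hneg i hi).1).resolve_right fun hdef => ?_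
      have h1 : -(Nneg : ℚ) / 7 + 8 / 105 ≤ sneg := by
        rw [hS, ← hSsum, ← Finset.add_sum_erase _ _ hi, ← Finset.add_sum_erase _ _ hi]
        have := Finset.sum_le_sum fun j (hj : j ∈ (R.filter fun i => A i < 0).erase i) =>
          hlow j (Finset.mem_of_mem_erase hj)
        linarith
      rw [hN6'] at h1
      push_cast at h1
      linarith
    rw [hS, Finset.sum_congr rfl he, hSsum, hN6']
    norm_num
  -- a single positive unit
  obtain ⟨j, hj, hjne⟩ : ∃ j ∈ R.filter (fun i => ¬ A i < 0), A j ≠ 0 := by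
    by_contra hall
    rw [Finset.sum_eq_zero fun i hi => by
      rw [show A i = 0 from by_contra fun h => hall ⟨i, hi, h⟩]; norm_num] at hP
    omega
  have hothers : ∀ i ∈ R.filter (fun i => ¬ A i < 0), i ≠ j → A i = 0 := by
    intro i hi hij
    have hle : A j ^ 2 + A i ^ 2 ≤ 1 := by
      rw [← hP1, hP, ← Finset.sum_pair (f := fun k => A k ^ 2) (Ne.symm hij)]
      exact Finset.sum_le_sum_of_subset_of_nonneg
        (by intro k hk; rcases Finset.mem_insert.1 hk with rfl | hk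
            · exact hj
            · rw [Finset.mem_singleton.1 hk]; exact hi)
        fun k _ _ => sq_nonneg _
    have hj1 : 0 < A j ^ 2 := by positivity
    exact pow_eq_zero_iff two_ne_zero |>.1 (by nlinarith [sq_nonneg (A i)])
  have hAj : A j = 1 := by
    rw [Finset.sum_eq_single_of_mem j hj fun i hi hij => by rw [hothers i hi hij]; norm_num] at hP
    have h0 : 0 ≤ A j := not_lt.1 (Finset.mem_filter.1 hj).2
    nlinarith
  have hTj : spos = 1 / (d j : ℚ) := by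
    rw [hT, Finset.sum_eq_single_of_mem j hj fun i hi hij => by rw [hothers i hi hij]; norm_num, hAj]
    norm_num
  rw [hexact, hTj] at heq'
  have hdj : (0 : ℚ) < d j := by exact_mod_cast hdpos j
  field_simp at heq'
  have e5 : (5 * d j : ℚ) = 77 := by linarith
  have : 5 * d j = 77 := by exact_mod_cast e5
  omega

end Cfsg.Lib.HallNumbers
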