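import Cfsg.Agent.Lib.HallNumbers.Eight
import Cfsg.Agent.Lib.CompositeOrder.Simple
import Cfsg.Agent.Lib.Core.Cores
import Cfsg.Agent.S0071
import Cfsg.Agent.S0804

/-!
# The numbers `p^k`, `2·odd`, 12, 24 and 60 are Hall numbers
-/

set_option autoImplicit false
set_option linter.style.haveILetI false
set_option linter.unusedSectionVars false

namespace Cfsg.Lib.HallNumbers

open Subgroup Cfsg

universe u

variable {G : Type u} [Group G] [Finite G]

/-- `m` is a unitary divisor of the group order. -/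
structure IsExact (m n : ℕ) : Prop where
  dvd : m ∣ n
  co : m.Coprime (n / m)

theorem not_dvd_of_exact {m n : ℕ} (h : IsExact m n) (hn : n ≠ 0) {p a : ℕ} (hp : p.Prime) (hpm : p ∣ m)
    (hpa : ¬ p ^ a ∣ m) : ¬ p ^ a ∣ n := by
  intro hd
  obtain ⟨k, rfl⟩ := h.dvd
  have hm0 : 0 < m := Nat.pos_of_ne_zero (left_ne_zero_of_mul hn)
  have hco := h.co
  rw [Nat.mul_div_cancel_left _ hm0] at hco
  exact hpa (((Nat.Coprime.coprime_dvd_left hpm hco).pow_left a).dvd_of_dvd_mul_right hd)

theorem exact_of_subgroup {m : ℕ} (h : IsExact m (Nat.card G)) {H : Subgroup G} (hm : m ∣ Nat.card H) :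
    IsExact m (Nat.card H) :=
  ⟨hm, h.co.coprime_dvd_right (Nat.div_dvd_div hm (card_subgroup_dvd_card H))⟩

theorem exists_of_solvable {m : ℕ} (h : IsExact m (Nat.card G)) (hG : Group.IsSolvable G) :
    ∃ H : Subgroup G, Nat.card H = m := by
  haveI := hG
  exact exists_card_of_solvable (H := (⊤ : Subgroup G)) inferInstance (by rw [card_top]; exact h.dvd) h.co

theorem isPrimePow_case {m : ℕ} (h : IsExact m (Nat.card G)) (hm : IsPrimePow m) :
    ∃ H : Subgroup G, Nat.card H = m := by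
  obtain ⟨p, k, hp, -, rfl⟩ := (isPrimePow_nat_iff m).1 hm
  haveI := Fact.mk hp
  exact Sylow.exists_subgroup_card_pow_prime p h.dvd

theorem two_mod_four_case {m : ℕ} (h : IsExact m (Nat.card G)) (hm : m % 4 = 2) :
    ∃ H : Subgroup G, Nat.card H = m := by
  refine exists_of_solvable h (GW.isSolvable_of_not_four_dvd ?_)
  exact not_dvd_of_exact h Nat.card_pos.ne' (p := 2) (a := 2) Nat.prime_two (by omega) (by omega)

/-- A non-trivial automorphism of odd prime order of a group of order dividing eight. -/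
theorem prime_auto {Q : Type*} [Group Q] [Finite Q] (hQ : Nat.card Q ∣ 2 ^ 3) (a : MulAut Q) {ℓ : ℕ}
    (hℓ : ℓ.Prime) (hℓ2 : ℓ ≠ 2) (ha : orderOf a = ℓ) :
    4 ∣ Nat.card Q ∧ (ℓ = 3 ∨ (ℓ = 7 ∧ Nat.card Q = 8 ∧ ∀ x : Q, x * x = 1)) := by
  classical
  haveI := Fact.mk hℓ
  have hp : IsPGroup ℓ (zpowers a) := IsPGroup.of_card (n := 1) (by rw [Nat.card_zpowers, ha, pow_one])
  let F : Subgroup Q :=
    { carrier := MulAction.fixedPoints (zpowers a) Q
      one_mem' := fun _ => map_one _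
      mul_mem' := fun {x y} hx hy b => by
        show (b : MulAut Q) (x * y) = x * y
        rw [map_mul]
        exact congrArg₂ (· * ·) (hx b) (hy b)
      inv_mem' := fun {x} hx b => by
        show (b : MulAut Q) x⁻¹ = x⁻¹
        rw [map_inv]
        exact congrArg _ (hx b) }
  have hmod := hp.card_modEq_card_fixedPoints Q
  rw [show Nat.card (MulAction.fixedPoints (zpowers a) Q) = Nat.card F from rfl] at hmod
  have hne : F ≠ ⊤ := fun e => by
    have : a = 1 := MulEquiv.ext fun x => (show x ∈ F from e ▸ mem_top x) ⟨a, mem_zpowers a⟩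
    rw [this, orderOf_one] at ha
    exact hℓ.ne_one ha.symm
  obtain ⟨i, hi, hQi⟩ := (Nat.dvd_prime_pow Nat.prime_two).1 hQ
  obtain ⟨j, hj, hFj⟩ := (Nat.dvd_prime_pow Nat.prime_two).1 (hQi ▸ card_subgroup_dvd_card F)
  have hji : j < i := lt_of_le_of_ne hj fun e => hne (by rw [← card_eq_iff_eq_top, hFj, hQi, e])
  rw [hQi, hFj] at hmod
  have hd : ℓ ∣ 2 ^ (i - j) - 1 := by
    have h1 : ℓ ∣ 2 ^ i - 2 ^ j := (Nat.modEq_iff_dvd' (Nat.pow_le_pow_right two_pos hj)).1 hmod.symm
    rw [show 2 ^ i - 2 ^ j = 2 ^ j * (2 ^ (i - j) - 1) by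
      rw [Nat.mul_sub, ← pow_add, Nat.add_sub_cancel' hj, mul_one]] at h1
    exact (((Nat.coprime_primes hℓ Nat.prime_two).2 hℓ2).pow_right j).dvd_of_dvd_mul_left h1
  have hk : i - j ≤ 3 := by omega
  interval_cases h : i - j
  · omega
  · exact absurd (Nat.le_of_dvd one_pos hd) (not_le.2 hℓ.one_lt)
  · exact ⟨hQi ▸ (pow_dvd_pow 2 (by omega) : 2 ^ 2 ∣ 2 ^ i),
      Or.inl ((Nat.prime_dvd_prime_iff_eq hℓ Nat.prime_three).1 hd)⟩
  · obtain rfl : i = 3 := by omega
    obtain rfl : j = 0 := by omega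
    have hℓ7 : ℓ = 7 := (Nat.prime_dvd_prime_iff_eq hℓ (by norm_num)).1 hd
    refine ⟨by rw [hQi]; norm_num, Or.inr ⟨hℓ7, by rw [hQi]; rfl, ?_⟩⟩
    have hF : F = ⊥ := eq_bot_of_card_eq F (by simpa using hFj)
    obtain ⟨t, ht⟩ := exists_prime_orderOf_dvd_card' (G := Q) 2 (hQi ▸ by norm_num)
    have ht1 : t ≠ 1 := fun e => by rw [e, orderOf_one] at ht; norm_num at ht
    have hstab : MulAction.stabilizer (zpowers a) t = ⊥ := by
      haveI : Fact (Nat.card (zpowers a)).Prime := ⟨by rw [Nat.card_zpowers, ha]; exact hℓ⟩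
      rcases (MulAction.stabilizer (zpowers a) t).eq_bot_or_eq_top_of_prime_card with e | e
      · exact e
      · refine absurd (mem_bot.1 (hF ▸ (fun b => ?_ : t ∈ F))) ht1
        exact MulAction.mem_stabilizer_iff.1 (e ▸ mem_top b)
    have hcard : Nat.card (MulAction.orbit (zpowers a) t) = 7 := by
      rw [Nat.card_coe_set_eq, ← MulAction.index_stabilizer, hstab, index_bot, Nat.card_zpowers, ha, hℓ7]
    have heq : MulAction.orbit (zpowers a) t = ({1} : Set Q)ᶜ := by
      refine Set.eq_of_subset_of_ncard_le ?_ ?_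
      · rintro _ ⟨b, rfl⟩ hb
        exact ht1 ((b : MulAut Q).injective (hb.trans (map_one _).symm))
      · rw [Set.ncard_compl, Set.ncard_singleton, hQi, ← Nat.card_coe_set_eq, hcard]
        norm_num
    intro x
    by_cases hx : x = 1
    · rw [hx, mul_one]
    obtain ⟨b, rfl⟩ := (heq ▸ hx : x ∈ MulAction.orbit (zpowers a) t)
    show (b : MulAut Q) t * (b : MulAut Q) t = 1
    rw [← map_mul, ← pow_two, ← ht, pow_orderOf_eq_one, map_one]

/-- A non-centralising element of odd order gives an automorphism of odd prime order. -/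
theorem exists_prime_auto {Q : Subgroup G} {g : G} (hg : g ∈ normalizer (Q : Set G))
    (hgo : Nat.Coprime (orderOf g) 2) (hgC : g ∉ centralizer (Q : Set G)) :
    ∃ (ℓ : ℕ) (b : MulAut Q), ℓ.Prime ∧ ℓ ≠ 2 ∧ orderOf b = ℓ ∧ ℓ ∣ orderOf g ∧ b ∈ Q.normalizerMonoidHom.range := by
  obtain ⟨a, hadef⟩ : ∃ a, a = Q.normalizerMonoidHom ⟨g, hg⟩ := ⟨_, rfl⟩
  have ha1 : a ≠ 1 := fun e => hgC (by
    have e' : (⟨g, hg⟩ : ↥(normalizer (Q : Set G))) ∈ Q.normalizerMonoidHom.ker :=
      MonoidHom.mem_ker.2 (hadef.symm.trans e)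
    rwa [normalizerMonoidHom_ker, mem_subgroupOf] at e')
  obtain ⟨ℓ, hℓ, hℓd⟩ := Nat.exists_prime_and_dvd (mt orderOf_eq_one_iff.1 ha1)
  have hdg : orderOf a ∣ orderOf g := by
    rw [hadef]
    exact (orderOf_map_dvd _ _).trans (by rw [Subgroup.orderOf_mk])
  have hℓ2 : ℓ ≠ 2 := fun e => by
    have := Nat.Coprime.coprime_dvd_left (hℓd.trans hdg) hgo
    rw [e] at this
    norm_num at this
  have hpos : 0 < orderOf a := by
    obtain ⟨c, hc⟩ := hdg
    exact Nat.pos_of_ne_zero fun h0 => (orderOf_pos g).ne' (by rw [hc, h0, zero_mul])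
  refine ⟨ℓ, a ^ (orderOf a / ℓ), hℓ, hℓ2, ?_, hℓd.trans hdg, pow_mem (show a ∈ Q.normalizerMonoidHom.range from ⟨_, hadef.symm⟩) _⟩
  rw [orderOf_pow_of_dvd (Nat.div_pos (Nat.le_of_dvd hpos hℓd) hℓ.pos).ne' (Nat.div_dvd_of_dvd hℓd),
    Nat.div_div_self hℓd hpos.ne']

/-- Frobenius' criterion gives solvability. -/
theorem solvable_of_criterion (S : Sylow 2 G)
    (h : ∀ Q : Subgroup G, Q ≤ (S : Subgroup G) → ∀ g ∈ normalizer (Q : Set G),
      Nat.Coprime (orderOf g) 2 → g ∈ centralizer (Q : Set G)) : Group.IsSolvable G := by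
  haveI : Fact (Nat.Prime 2) := ⟨Nat.prime_two⟩
  obtain ⟨N, hN, hc⟩ := (Cfsg.Agent.S0071.result S).2 h
  haveI := hN
  haveI : Group.IsSolvable ↥N := by
    refine Cfsg.Agent.S0205.result (Nat.odd_iff.2 (Nat.two_dvd_ne_zero.1 ?_))
    rw [← hc.index_eq_card]
    exact S.not_dvd_index
  have hp : IsPGroup 2 (G ⧸ N) := by
    obtain ⟨n, hn⟩ := IsPGroup.iff_card.1 S.2
    exact IsPGroup.of_card (n := n) (by rw [← index_eq_card, (IsComplement'.symm hc).index_eq_card, hn])
  haveI := hp.isNilpotent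
  exact Group.isSolvable_of_ker_le_range N.subtype (QuotientGroup.mk' N)
    (by rw [QuotientGroup.ker_mk', range_subtype])

/-- Either a two-subgroup of order at least four has automizer of order divisible by three, or there is an
element inducing an automorphism of order seven, or there is a normal two-complement. -/
theorem dichotomy (S : Sylow 2 G) (hS : Nat.card (S : Subgroup G) ∣ 2 ^ 3) :
    (∃ Q : Subgroup G, Q ≤ S ∧ 4 ∣ Nat.card Q ∧ 3 ∣ Nat.card (normalizer (Q : Set G))) ∨
      (Nat.card (S : Subgroup G) = 8 ∧ (∀ x ∈ (S : Subgroup G), x * x = 1) ∧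
        7 ∣ Nat.card (E8Cent.automizer S)) ∨
      Group.IsSolvable G := by
  classical
  haveI : Fact (Nat.Prime 2) := ⟨Nat.prime_two⟩
  by_cases h : ∀ Q : Subgroup G, Q ≤ (S : Subgroup G) → ∀ g ∈ normalizer (Q : Set G),
      Nat.Coprime (orderOf g) 2 → g ∈ centralizer (Q : Set G)
  · exact Or.inr (Or.inr (solvable_of_criterion S h))
  push Not at h
  obtain ⟨Q, hQS, g, hg, hgo, hgC⟩ := h
  obtain ⟨ℓ, b, hℓ, hℓ2, hb, hℓg, hbm⟩ := exists_prime_auto hg hgo hgC
  obtain ⟨h4, h37⟩ := prime_auto ((card_dvd_of_le hQS).trans hS) b hℓ hℓ2 hb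
  rcases h37 with rfl | ⟨rfl, h8, hsq⟩
  · refine Or.inl ⟨Q, hQS, h4, hℓg.trans ?_⟩
    rw [← Subgroup.orderOf_mk g hg]
    exact orderOf_dvd_natCard _
  · have hQ : Q = (S : Subgroup G) := eq_of_le_of_card_ge hQS
      (by rw [h8]; exact Nat.le_of_dvd (by norm_num) hS)
    subst hQ
    refine Or.inr (Or.inl ⟨h8, fun x hx => congrArg Subtype.val (hsq ⟨x, hx⟩), ?_⟩)
    have hm : b ∈ E8Cent.automizer S := hbm
    have := orderOf_dvd_natCard (⟨b, hm⟩ : E8Cent.automizer S)
    rwa [Subgroup.orderOf_mk, hb] at this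

/-- The normalizer of a two-subgroup of order at least four of a Sylow subgroup of order at most eight. -/
theorem normalizer_solvable (h16 : ¬ 16 ∣ Nat.card G) {Q : Subgroup G} (hQ : 4 ∣ Nat.card Q)
    (hQp : IsPGroup 2 Q) : Group.IsSolvable ↥(normalizer (Q : Set G)) := by
  set N := normalizer (Q : Set G)
  haveI : (Q.subgroupOf N).Normal := normal_subgroupOf_of_le_normalizer le_rfl
  haveI : Fact (Nat.Prime 2) := ⟨Nat.prime_two⟩
  haveI : Group.IsNilpotent ↥(Q.subgroupOf N) :=
    (hQp.of_equiv (subgroupOfEquivOfLe le_normalizer).symm).isNilpotent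
  haveI : Group.IsSolvable (N ⧸ Q.subgroupOf N) := by
    refine GW.isSolvable_of_not_four_dvd fun h4 => h16 ?_
    refine dvd_trans ?_ (card_subgroup_dvd_card N)
    rw [card_eq_card_quotient_mul_card_subgroup (Q.subgroupOf N),
      Nat.card_congr (subgroupOfEquivOfLe (le_normalizer : Q ≤ N)).toEquiv]
    exact (show 16 = 4 * 4 from rfl) ▸ Nat.mul_dvd_mul h4 hQ
  exact Group.isSolvable_of_ker_le_range (Q.subgroupOf N).subtype (QuotientGroup.mk' (Q.subgroupOf N))
    (by rw [QuotientGroup.ker_mk', range_subtype])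

theorem card_sylow_two {m : ℕ} (h : IsExact m (Nat.card G)) {a : ℕ} (ha : 2 ^ a ∣ m)
    (ha' : ¬ 2 ^ (a + 1) ∣ m) (h2 : 2 ∣ m) (S : Sylow 2 G) : Nat.card (S : Subgroup G) = 2 ^ a := by
  haveI : Fact (Nat.Prime 2) := ⟨Nat.prime_two⟩
  obtain ⟨n, hn⟩ := IsPGroup.iff_card.1 S.2
  rw [hn]
  congr 1
  have h1 : 2 ^ a ∣ Nat.card (S : Subgroup G) := S.pow_dvd_card_of_pow_dvd_card (ha.trans h.dvd)
  rw [hn, Nat.pow_dvd_pow_iff_le_right (by norm_num)] at h1
  by_contra hne
  refine not_dvd_of_exact h Nat.card_pos.ne' Nat.prime_two h2 ha' ?_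
  exact ((pow_dvd_pow 2 (by omega : a + 1 ≤ n)).trans (by rw [← hn])).trans (card_subgroup_dvd_card _)

theorem twelve_normalizer (h : IsExact 12 (Nat.card G)) (S : Sylow 2 G) :
    Group.IsSolvable G ∨ (Group.IsSolvable ↥(normalizer ((S : Subgroup G) : Set G)) ∧
      12 ∣ Nat.card (normalizer ((S : Subgroup G) : Set G))) := by
  haveI : Fact (Nat.Prime 2) := ⟨Nat.prime_two⟩
  have hS : Nat.card (S : Subgroup G) = 4 := card_sylow_two h (a := 2) (by norm_num) (by norm_num) (by norm_num) S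
  have h16 : ¬ 16 ∣ Nat.card G :=
    not_dvd_of_exact h Nat.card_pos.ne' (a := 4) Nat.prime_two (by norm_num) (by norm_num)
  rcases dichotomy S (by rw [hS]; norm_num) with ⟨Q, hQS, h4, h3⟩ | ⟨h8, -, -⟩ | hsol
  · obtain rfl : Q = (S : Subgroup G) := eq_of_le_of_card_ge hQS
      (by rw [hS]; exact Nat.le_of_dvd Nat.card_pos h4)
    exact Or.inr ⟨normalizer_solvable h16 (by rw [hS]) S.2,
      (show Nat.Coprime 4 3 by norm_num).mul_dvd_of_dvd_of_dvd (h4.trans (card_dvd_of_le le_normalizer)) h3⟩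
  · omega
  · exact Or.inl hsol

theorem twelve (h : IsExact 12 (Nat.card G)) : ∃ H : Subgroup G, Nat.card H = 12 := by
  obtain ⟨S⟩ : Nonempty (Sylow 2 G) := inferInstance
  rcases twelve_normalizer h S with hs | ⟨hs, hd⟩
  · exact exists_of_solvable h hs
  · exact exists_card_of_solvable hs hd h.co

theorem twentyFour (h : IsExact 24 (Nat.card G)) : ∃ H : Subgroup G, Nat.card H = 24 := by
  classical
  haveI : Fact (Nat.Prime 2) := ⟨Nat.prime_two⟩
  obtain ⟨S⟩ : Nonempty (Sylow 2 G) := inferInstance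
  have hS : Nat.card (S : Subgroup G) = 8 := card_sylow_two h (a := 3) (by norm_num) (by norm_num) (by norm_num) S
  have h16 : ¬ 16 ∣ Nat.card G :=
    not_dvd_of_exact h Nat.card_pos.ne' (a := 4) Nat.prime_two (by norm_num) (by norm_num)
  have key : ∀ Q : Subgroup G, Q ≤ S → 4 ∣ Nat.card Q → 3 ∣ Nat.card (normalizer (Q : Set G)) →
      ∃ H : Subgroup G, Nat.card H = 24 := by
    intro Q hQS h4 h3
    have hQp : IsPGroup 2 Q := S.2.to_le hQS
    refine exists_card_of_solvable (normalizer_solvable h16 h4 hQp)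
      ((show Nat.Coprime 8 3 by norm_num).mul_dvd_of_dvd_of_dvd (hS ▸ card_dvd_of_le ?_) h3) h.co
    rcases eq_or_ne (Nat.card Q) 8 with e | e
    · rw [← eq_of_le_of_card_ge hQS (by rw [hS, e])]
      exact le_normalizer
    · have hQ4 : Nat.card Q = 4 := by
        have h1 : Nat.card Q ∣ 8 := hS ▸ card_dvd_of_le hQS
        have h2 := Nat.le_of_dvd (by norm_num) h1
        have h0 : 0 < Nat.card Q := Nat.card_pos
        obtain ⟨c, hc⟩ := h4
        rcases (show c = 0 ∨ c = 1 ∨ c = 2 by omega) with rfl | rfl | rfl <;> omega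
      haveI : (Q.subgroupOf (S : Subgroup G)).Normal := normal_of_index_eq_two (by
        have := (Q.subgroupOf (S : Subgroup G)).card_mul_index
        rw [Nat.card_congr (subgroupOfEquivOfLe hQS).toEquiv, hQ4, hS] at this
        omega)
      exact le_normalizer_of_normal_subgroupOf hQS
  rcases dichotomy S (by rw [hS]; norm_num) with ⟨Q, hQS, h4, h3⟩ | ⟨-, hsq, h7⟩ | hsol
  · exact key Q hQS h4 h3
  swap
  · exact exists_of_solvable h hsol
  by_cases hN3 : 3 ∣ Nat.card (normalizer ((S : Subgroup G) : Set G))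
  · exact key _ le_rfl (by rw [hS]; norm_num) hN3
  by_cases hC : ∃ t ∈ (S : Subgroup G), t ≠ 1 ∧ 3 ∣ Nat.card (centralizer ({t} : Set G))
  · obtain ⟨t, htS, ht1, h3⟩ := hC
    set C := centralizer ({t} : Set G) with hC
    have hSC : (S : Subgroup G) ≤ C := fun s hs => mem_centralizer_singleton_iff.2 (commute_S hsq hs htS).eq
    set Z := zpowers (⟨t, mem_centralizer_singleton_iff.2 rfl⟩ : C) with hZ
    haveI : Z.Normal := ⟨fun z hz c => by
      obtain ⟨i, rfl⟩ := mem_zpowers_iff.1 hz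
      have hc : Commute c (⟨t, mem_centralizer_singleton_iff.2 rfl⟩ : C) :=
        Subtype.ext (mem_centralizer_singleton_iff.1 c.2)
      rw [(hc.zpow_right i).eq, mul_inv_cancel_right]
      exact hz⟩
    have hZ2 : Nat.card Z = 2 := by
      rw [Nat.card_zpowers, Subgroup.orderOf_mk, orderOf_eq_prime (by rw [pow_two]; exact hsq t htS) ht1]
    have h24 : IsExact 24 (Nat.card C) :=
      exact_of_subgroup h ((show Nat.Coprime 8 3 by norm_num).mul_dvd_of_dvd_of_dvd (hS ▸ card_dvd_of_le hSC) h3)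
    have e := card_eq_card_quotient_mul_card_subgroup Z
    rw [hZ2] at e
    have h12 : IsExact 12 (Nat.card (C ⧸ Z)) := by
      obtain ⟨⟨k, hk⟩, hco⟩ := h24
      rw [hk, Nat.mul_div_cancel_left _ (by norm_num : 0 < 24)] at hco
      have e2 : Nat.card (C ⧸ Z) = 12 * k := by omega
      refine ⟨⟨k, e2⟩, ?_⟩
      rw [e2, Nat.mul_div_cancel_left _ (by norm_num : 0 < 12)]
      exact hco.coprime_dvd_left (by norm_num)
    obtain ⟨K, hK⟩ := twelve h12
    refine ⟨(K.comap (QuotientGroup.mk' Z)).map C.subtype, ?_⟩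
    rw [card_map_of_injective C.subtype_injective]
    have hi := index_comap_of_surjective K (QuotientGroup.mk'_surjective Z)
    have e3 := (K.comap (QuotientGroup.mk' Z)).card_mul_index
    have e4 := K.card_mul_index
    rw [hi, e] at e3
    rw [hK] at e4
    rw [← e4] at e3
    exact Nat.eq_of_mul_eq_mul_right (Nat.pos_of_ne_zero index_ne_zero_of_finite)
      (show _ * K.index = 24 * K.index by rw [e3]; ring)
  push Not at hC
  have h21 : Nat.card (E8Cent.automizer S) ∣ 21 := by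
    haveI : IsMulCommutative (S : Subgroup G) := ⟨⟨fun a b => Subtype.ext (commute_S hsq a.2 b.2).eq⟩⟩
    exact E8Cent.card_automizer_dvd hS ⟨inferInstance, fun s hs => by rw [pow_two]; exact hsq s hs⟩
  have hd : Nat.card (E8Cent.automizer S) ∣ Nat.card (normalizer ((S : Subgroup G) : Set G)) :=
    card_range_dvd _
  have h7' : Nat.card (E8Cent.automizer S) = 7 := by
    obtain ⟨k, hk⟩ := h7
    rw [hk] at h21 hd ⊢
    have hk3 : k ∣ 3 := Nat.dvd_of_mul_dvd_mul_left (by norm_num : 0 < 7) h21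
    rcases (Nat.dvd_prime Nat.prime_three).1 hk3 with rfl | rfl
    · rfl
    · exact absurd ((dvd_mul_left 3 7).trans hd) hN3
  exact exists_twentyFour hS hsq h7' h.dvd h.co fun t ht ht1 => hC t ht ht1

theorem twelve_of_sixty {n : ℕ} (h : IsExact 60 n) : IsExact 12 n := by
  obtain ⟨⟨k, rfl⟩, hco⟩ := h
  rw [Nat.mul_div_cancel_left _ (by norm_num : 0 < 60)] at hco
  refine ⟨⟨5 * k, by ring⟩, ?_⟩
  rw [show 60 * k = 12 * (5 * k) by ring, Nat.mul_div_cancel_left _ (by norm_num : 0 < 12)]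
  exact Nat.Coprime.mul_right (by norm_num) (hco.coprime_dvd_left (by norm_num))

/-- A normal subgroup of order not divisible by four of a group without odd core has order two. -/
theorem card_two_of_core {T : Subgroup G} [T.Normal] (h4 : ¬ 4 ∣ Nat.card T) (hT : T ≠ ⊥)
    (hcore : Cfsg.pPrimeCore 2 G = ⊥) : Nat.card T = 2 := by
  haveI : Fact (Nat.Prime 2) := ⟨Nat.prime_two⟩
  obtain ⟨S⟩ : Nonempty (Sylow 2 T) := inferInstance
  haveI : IsCyclic (S : Subgroup T) := by
    obtain ⟨k, hk⟩ := S.2.exists_card_eq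
    rcases k with _ | _ | k
    · haveI : Subsingleton (S : Subgroup T) := (Nat.card_eq_one_iff_unique.1 (by simpa using hk)).1
      exact isCyclic_of_subsingleton
    · exact isCyclic_of_prime_card (p := 2) (by simpa using hk)
    · refine absurd (dvd_trans ⟨2 ^ k, ?_⟩ (card_subgroup_dvd_card (S : Subgroup T))) h4
      rw [hk]; ring
  have hodd : Nat.Coprime (Nat.card (Cfsg.pResidual 2 ↥T)) 2 :=
    Cfsg.Lib.Fusion.hasNormalPComplement_iff_coprime.1 (Cfsg.Lib.FTCons.MetacyclicSylow.complement_of_cyclic S)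
  haveI : (Cfsg.pResidual 2 ↥T).Characteristic := by
    rw [characteristic_iff_map_le]
    intro φ
    show (Subgroup.closure _).map _ ≤ Subgroup.closure _
    rw [MonoidHom.map_closure]
    refine closure_mono ?_
    rintro _ ⟨g, hg, rfl⟩
    show Nat.Coprime (orderOf (φ g)) 2
    rw [φ.orderOf_eq]
    exact hg
  have hK : Cfsg.pResidual 2 ↥T = ⊥ := by
    have := Core.le_pPrimeCore' (p := 2)
      (inferInstance : ((Cfsg.pResidual 2 ↥T).map T.subtype).Normal)
      (by rwa [card_map_of_injective T.subtype_injective])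
    rwa [hcore, le_bot_iff, map_eq_bot_iff_of_injective _ T.subtype_injective] at this
  obtain ⟨k, hk⟩ := (Cfsg.Lib.Fusion.isPGroup_quotient_pResidual (G := ↥T) (p := 2)).exists_card_eq
  rw [← index_eq_card, hK, index_bot] at hk
  rcases k with _ | _ | k
  · exact absurd (eq_bot_of_card_eq T (by simpa using hk)) hT
  · simpa using hk
  · exact absurd ⟨2 ^ k, by rw [hk]; ring⟩ h4

theorem commute_of_card_two {T : Subgroup G} [hT : T.Normal] (h2 : Nat.card T = 2) {x : G} (hx : x ∈ T)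
    (y : G) : y * x = x * y := by
  rcases eq_or_ne x 1 with rfl | hx1
  · rw [mul_one, one_mul]
  have hu : ∀ z : T, (z : G) = 1 ∨ (z : G) = x := by
    intro z
    obtain ⟨w, hw, huniq⟩ := (Nat.card_eq_two_iff' (1 : T)).1 h2
    by_cases hz : z = 1
    · exact Or.inl (by rw [hz, coe_one])
    · refine Or.inr (congrArg Subtype.val ((huniq z hz).trans (huniq ⟨x, hx⟩ ?_).symm))
      exact fun e => hx1 (congrArg Subtype.val e)
  rcases hu ⟨_, hT.conj_mem x hx y⟩ with e | e
  · refine absurd ?_ hx1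
    simpa [mul_inv_eq_one] using e
  · exact mul_inv_eq_iff_eq_mul.1 e

theorem solvable_of_cyclic_four (S : Sylow 2 G) (h4 : Nat.card (S : Subgroup G) = 4) {x : G}
    (hx : x ∈ (S : Subgroup G)) (hne : x ^ 2 ≠ 1) : Group.IsSolvable G := by
  haveI : Fact (Nat.Prime 2) := ⟨Nat.prime_two⟩
  have ho : orderOf (⟨x, hx⟩ : (S : Subgroup G)) = 4 := by
    have hd : orderOf (⟨x, hx⟩ : (S : Subgroup G)) ∣ 2 ^ 2 := (_root_.orderOf_dvd_natCard _).trans (by rw [h4]; norm_num)
    rw [Subgroup.orderOf_mk] at hd ⊢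
    obtain ⟨i, hi, he⟩ := (Nat.dvd_prime_pow Nat.prime_two).1 hd
    rcases Nat.lt_or_ge i 2 with hlt | hge
    · refine absurd (orderOf_dvd_iff_pow_eq_one.1 ?_) hne
      rw [he]
      exact dvd_trans (pow_dvd_pow 2 (by omega : i ≤ 1)) (by norm_num)
    · rw [he, show i = 2 by omega]; norm_num
  haveI : IsCyclic (S : Subgroup G) := isCyclic_of_orderOf_eq_card ⟨x, hx⟩ (ho.trans h4.symm)
  exact GW.isSolvable_of_complement (Cfsg.Lib.FTCons.MetacyclicSylow.complement_of_cyclic S)

theorem isSolvable_sup {O N : Subgroup G} [O.Normal] [hO : Group.IsSolvable ↥O]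
    (hN : Group.IsSolvable ↥N) : Group.IsSolvable ↥(O ⊔ N) := by
  haveI := hN
  set M := O ⊔ N with hM
  let f : ↥N →* ↥M ⧸ O.subgroupOf M :=
    (QuotientGroup.mk' _).comp (inclusion (le_sup_right : N ≤ M))
  have hf : Function.Surjective f := by
    intro q
    obtain ⟨⟨x, hx⟩, rfl⟩ := QuotientGroup.mk'_surjective _ q
    obtain ⟨o, ho, n, hn, rfl⟩ := mem_sup_of_normal_left.1 (hM ▸ hx)
    refine ⟨⟨n, hn⟩, (QuotientGroup.mk'_eq_mk' _).2 ?_⟩
    refine ⟨⟨n⁻¹ * o * n, mul_mem (mul_mem (inv_mem (le_sup_right (a := O) hn))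
      (le_sup_left (b := N) ho)) (le_sup_right (a := O) hn)⟩, ?_, ?_⟩
    · simpa [mem_subgroupOf] using (inferInstance : O.Normal).conj_mem o ho n⁻¹
    · exact Subtype.ext (show n * (n⁻¹ * o * n) = o * n by group)
  haveI : Group.IsSolvable (↥M ⧸ O.subgroupOf M) := Group.isSolvable_of_surjective hf
  haveI : Group.IsSolvable ↥(O.subgroupOf M) :=
    Group.isSolvable_of_surjective (f := (subgroupOfEquivOfLe (le_sup_left : O ≤ M)).symm.toMonoidHom)
      (MulEquiv.surjective _)
  exact Group.isSolvable_of_ker_le_range (O.subgroupOf M).subtype (QuotientGroup.mk' (O.subgroupOf M))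
    (by rw [QuotientGroup.ker_mk', range_subtype])

/-- A minimal normal subgroup without odd core of a group with Sylow two-subgroup of order four, if
not solvable, is simple. -/
theorem isSimpleGroup_minimal {N : Subgroup G} [hNn : N.Normal]
    (hN : Minimal (fun M : Subgroup G => M.Normal ∧ M ≠ ⊥) N) (h8 : ¬ 8 ∣ Nat.card G)
    (hcore : Cfsg.pPrimeCore 2 ↥N = ⊥) (hcenter : center ↥N = ⊥) : IsSimpleGroup ↥N := by
  classical
  haveI : Nontrivial ↥N := (nontrivial_iff_ne_bot N).2 hN.1.2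
  haveI : Finite (Subgroup ↥N) := Finite.of_injective (fun H => (H : Set ↥N)) SetLike.coe_injective
  obtain ⟨T, hT⟩ := (Set.toFinite {T : Subgroup ↥N | T.Normal ∧ T ≠ ⊥}).exists_minimal
    ⟨⊤, inferInstance, top_ne_bot⟩
  haveI hTn : T.Normal := hT.1.1
  suffices hTtop : T = ⊤ by
    refine ⟨fun K hK => ?_⟩
    refine (eq_or_ne K ⊥).imp_right fun hK0 => top_le_iff.1 ?_
    have hKT : K ≤ T := hTtop ▸ le_top
    exact hTtop ▸ hT.2 ⟨hK, hK0⟩ hKT
  by_cases h4 : 4 ∣ Nat.card T
  · have hTG : (T.map N.subtype).Normal := ⟨fun x hx g => by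
      obtain ⟨y, hy, rfl⟩ := hx
      obtain ⟨φ, hφ⟩ : ∃ φ : MulAut ↥N, φ = MulAut.conjNormal g := ⟨_, rfl⟩
      obtain ⟨T', hT'def⟩ : ∃ T', T' = T.map φ.toMonoidHom := ⟨_, rfl⟩
      haveI : T'.Normal := hT'def ▸ hTn.map _ (MulEquiv.surjective _)
      have hc : Nat.card T' = Nat.card T := by
        rw [hT'def]
        exact card_map_of_injective (MulEquiv.injective φ)
      have hTT : T ≤ T' := by
        refine le_trans (hT.2 ⟨inferInstance, fun hi => ?_⟩ inf_le_left) inf_le_right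
        refine h8 (dvd_trans ?_ (card_subgroup_dvd_card N))
        have hinj : Function.Injective ((QuotientGroup.mk' T').comp T.subtype) := by
          refine (injective_iff_map_eq_one _).2 fun t ht => Subtype.ext (mem_bot.1 ?_)
          exact hi ▸ mem_inf.2 ⟨t.2, (QuotientGroup.eq_one_iff _).1 ht⟩
        rw [card_eq_card_quotient_mul_card_subgroup T', hc]
        exact ((show 8 ∣ 4 * 4 by norm_num).trans (Nat.mul_dvd_mul h4 h4)).trans
          (Nat.mul_dvd_mul (card_dvd_of_injective _ hinj) dvd_rfl)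
      have he : T = T' := eq_of_le_of_card_ge hTT hc.le
      refine ⟨φ y, ?_, ?_⟩
      · rw [SetLike.mem_coe, he, hT'def]
        exact mem_map_of_mem _ hy
      · rw [hφ]
        exact MulAut.conjNormal_apply g y⟩
    have := hN.2 ⟨hTG, fun e => hT.1.2 ((map_eq_bot_iff_of_injective _ N.subtype_injective).1 e)⟩
      (map_subtype_le _)
    exact map_injective N.subtype_injective
      ((le_antisymm (map_subtype_le _) this).trans (by rw [← MonoidHom.range_eq_map, range_subtype]))
  · exfalso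
    have hT2 := card_two_of_core h4 hT.1.2 hcore
    exact hT.1.2 (le_bot_iff.1 (hcenter ▸ fun x hx => mem_center_iff.2 fun y => commute_of_card_two hT2 hx y))

theorem lift_complement {O K : Subgroup G} [O.Normal] (hOK : O ≤ K) (hK : Nat.card K = Nat.card O * 60)
    (hco : Nat.Coprime (Nat.card O) 60) : ∃ H : Subgroup G, Nat.card H = 60 := by
  have hc : Nat.card (O.subgroupOf K) = Nat.card O := Nat.card_congr (subgroupOfEquivOfLe hOK).toEquiv
  have hi : (O.subgroupOf K).index = 60 := by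
    have := (O.subgroupOf K).card_mul_index
    rw [hc, hK] at this
    exact Nat.eq_of_mul_eq_mul_left Nat.card_pos this
  obtain ⟨C, hC⟩ := exists_right_complement'_of_coprime (N := O.subgroupOf K) (by rw [hc, hi]; exact hco)
  exact ⟨C.map K.subtype, by
    rw [card_map_of_injective K.subtype_injective, ← hi, (IsComplement'.symm hC).index_eq_card]⟩

/-- The case of a trivial odd core. -/
theorem sixty_core (h : IsExact 60 (Nat.card G)) (hcore : Cfsg.pPrimeCore 2 G = ⊥) :
    ∃ H : Subgroup G, Nat.card H = 60 := by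
  classical
  haveI : Fact (Nat.Prime 2) := ⟨Nat.prime_two⟩
  obtain ⟨S⟩ : Nonempty (Sylow 2 G) := inferInstance
  have h12 : IsExact 12 (Nat.card G) := twelve_of_sixty h
  have hS : Nat.card (S : Subgroup G) = 4 :=
    card_sylow_two h12 (a := 2) (by norm_num) (by norm_num) (by norm_num) S
  rcases twelve_normalizer h12 S with hs | ⟨hNsol, hN12⟩
  · exact exists_of_solvable h hs
  by_cases h5N : 5 ∣ Nat.card (normalizer ((S : Subgroup G) : Set G))
  · exact exists_card_of_solvable hNsol ((show Nat.Coprime 12 5 by norm_num).mul_dvd_of_dvd_of_dvd hN12 h5N) h.co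
  by_cases hsolG : Group.IsSolvable G
  · exact exists_of_solvable h hsolG
  haveI : Finite (Subgroup G) := Finite.of_injective (fun H => (H : Set G)) SetLike.coe_injective
  haveI : Nontrivial G := Finite.one_lt_card_iff_nontrivial.1
    ((by norm_num : 1 < 60).trans_le (Nat.le_of_dvd Nat.card_pos h.dvd))
  obtain ⟨N, hN⟩ := (Set.toFinite {N : Subgroup G | N.Normal ∧ N ≠ ⊥}).exists_minimal
    ⟨⊤, inferInstance, top_ne_bot⟩
  haveI hNn : N.Normal := hN.1.1
  have h8 : ¬ 8 ∣ Nat.card G := not_dvd_of_exact h Nat.card_pos.ne' (a := 3) Nat.prime_two (by norm_num) (by norm_num)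
  -- odd normal subgroups of `N`
  have hcoreN : Cfsg.pPrimeCore 2 ↥N = ⊥ := by
    have hle : (Cfsg.pPrimeCore 2 ↥N).map N.subtype ≤ Cfsg.pPrimeCore 2 G :=
      Core.pPrimeCore_map_le_of_isSubnormal hNn.isSubnormal
    rw [hcore, le_bot_iff, map_eq_bot_iff_of_injective _ N.subtype_injective] at hle
    exact hle
  have hN4 : 4 ∣ Nat.card N := by
    by_contra h4
    haveI : Group.IsSolvable ↥N := GW.isSolvable_of_not_four_dvd h4
    have hNtop : N ≠ ⊤ := fun e => h4 (by rw [e, card_top]; exact (by norm_num : 4 ∣ 60).trans h.dvd)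
    by_cases he : 2 ∣ Nat.card N
    · -- then the quotient is solvable
      haveI : Group.IsSolvable (G ⧸ N) := by
        refine GW.isSolvable_of_not_four_dvd fun h4' => h8 ?_
        rw [card_eq_card_quotient_mul_card_subgroup N]
        exact (show 8 = 4 * 2 from rfl) ▸ Nat.mul_dvd_mul h4' he
      exact hsolG (Group.isSolvable_of_ker_le_range N.subtype (QuotientGroup.mk' N)
        (by rw [QuotientGroup.ker_mk', range_subtype]))
    · exact hN.1.2 (le_bot_iff.1 (hcore ▸ Core.le_pPrimeCore' hNn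
        (Nat.coprime_comm.1 ((Nat.prime_two.coprime_iff_not_dvd).2 he))))
  have hSN : (S : Subgroup G) ≤ N := by
    obtain ⟨P⟩ : Nonempty (Sylow 2 N) := inferInstance
    have hP4 : Nat.card (P : Subgroup N) = 4 := by
      have h1 : 2 ^ 2 ∣ Nat.card (P : Subgroup N) := P.pow_dvd_card_of_pow_dvd_card hN4
      obtain ⟨n, hn⟩ := IsPGroup.iff_card.1 P.2
      rw [hn, Nat.pow_dvd_pow_iff_le_right (by norm_num)] at h1
      rw [hn]
      by_contra hne
      exact h8 (((pow_dvd_pow 2 (by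
        rcases Nat.lt_or_ge 2 n with hlt | hge
        · exact hlt
        · exact absurd (by rw [show n = 2 by omega]; rfl) hne : 3 ≤ n)).trans (by rw [← hn])).trans
          ((card_subgroup_dvd_card _).trans (card_subgroup_dvd_card _)))
    obtain ⟨Q, hQ⟩ := (P.2.map N.subtype).exists_le_sylow
    obtain ⟨g, hg⟩ := MulAction.exists_smul_eq G Q S
    have hQeq : (P : Subgroup N).map N.subtype = (Q : Subgroup G) := eq_of_le_of_card_ge hQ (by
      rw [card_map_of_injective N.subtype_injective, hP4,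
        card_sylow_two h12 (a := 2) (by norm_num) (by norm_num) (by norm_num) Q]
      norm_num)
    rw [← hg, Sylow.coe_subgroup_smul, ← hQeq]
    rintro _ ⟨_, ⟨y, -, rfl⟩, rfl⟩
    exact hNn.conj_mem _ y.2 g
  have hNns : ¬ Group.IsSolvable ↥N := by
    intro hs
    haveI := hs
    haveI : Group.IsSolvable (G ⧸ N) := by
      refine Cfsg.Agent.S0205.result (Nat.not_even_iff_odd.1 fun he => h8 ?_)
      rw [card_eq_card_quotient_mul_card_subgroup N]
      exact (show 8 = 2 * 4 from rfl) ▸ Nat.mul_dvd_mul he.two_dvd hN4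
    exact hsolG (Group.isSolvable_of_ker_le_range N.subtype (QuotientGroup.mk' N)
      (by rw [QuotientGroup.ker_mk', range_subtype]))
  have hcenter : center ↥N = ⊥ := by
    by_contra hne
    have hm : ((center ↥N).map N.subtype).Normal := inferInstance
    have := hN.2 ⟨hm, fun e => hne ((map_eq_bot_iff_of_injective _ N.subtype_injective).1 e)⟩ (map_subtype_le _)
    refine hNns (Group.isSolvable_of_comm fun a b => ?_)
    obtain ⟨a', ha', hae⟩ := this a.2
    obtain rfl : a' = a := Subtype.ext hae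
    exact (mem_center_iff.1 ha' b).symm
  haveI : Nontrivial ↥N := (nontrivial_iff_ne_bot N).2 hN.1.2
  haveI : IsSimpleGroup ↥N := isSimpleGroup_minimal hN h8 hcoreN hcenter
  have hna : ¬ IsMulCommutative ↥N := fun hc => hNns (Group.isSolvable_of_comm fun a b => hc.is_comm.comm a b)
  let SN : Sylow 2 N := S.subtype hSN
  have hSN4 : Nat.card (SN : Subgroup N) = 4 := (Nat.card_congr (subgroupOfEquivOfLe hSN).toEquiv).trans hS
  have hexp : ∀ x ∈ (SN : Subgroup N), x ^ 2 = 1 := fun x hx => by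
    by_contra hne
    exact hNns (solvable_of_cyclic_four SN hSN4 hx hne)
  obtain ⟨F, iF, iF', h3F, -, ⟨e⟩⟩ := CompOrd.psl_of_sylow_four hna SN hSN4 hexp
  have h5 : 5 ∣ Nat.card N := by
    by_contra h5
    refine h5N ?_
    have hfr := S.normalizer_sup_eq_top' hSN
    have hd : Nat.card G ∣ Nat.card (normalizer ((S : Subgroup G) : Set G)) * Nat.card N := by
      rw [← card_top (G := G), ← hfr]
      exact Core.card_sup_dvd_mul _ _
    exact ((Nat.Prime.dvd_mul (by norm_num)).1 (((by norm_num : 5 ∣ 60).trans h.dvd).trans hd)).resolve_right h5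
  obtain ⟨H, ⟨eH⟩⟩ := (Cfsg.Agent.S0804.result (F := F) rfl).2 (by
    rw [← Linear.Two.card_PSL_two]
    exact dvd_mul_of_dvd_right (Nat.card_congr e.toEquiv ▸ h5) _)
  refine ⟨(H.map e.symm.toMonoidHom).map N.subtype, ?_⟩
  rw [card_map_of_injective N.subtype_injective, card_map_of_injective e.symm.injective,
    Nat.card_congr eH.toEquiv, nat_card_alternatingGroup, Nat.card_eq_fintype_card, Fintype.card_fin]
  rfl

theorem sixty (h : IsExact 60 (Nat.card G)) : ∃ H : Subgroup G, Nat.card H = 60 := by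
  classical
  haveI : Fact (Nat.Prime 2) := ⟨Nat.prime_two⟩
  obtain ⟨S⟩ : Nonempty (Sylow 2 G) := inferInstance
  have h12 : IsExact 12 (Nat.card G) := twelve_of_sixty h
  have hS : Nat.card (S : Subgroup G) = 4 :=
    card_sylow_two h12 (a := 2) (by norm_num) (by norm_num) (by norm_num) S
  by_cases hcs : ∀ Q : Subgroup G, Q ≤ (S : Subgroup G) → ∀ g ∈ normalizer (Q : Set G),
      Nat.Coprime (orderOf g) 2 → g ∈ centralizer (Q : Set G)
  · exact exists_of_solvable h (solvable_of_criterion S hcs)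
  push Not at hcs
  obtain ⟨Q, hQS, g, hg, hgo, hgC⟩ := hcs
  obtain ⟨ℓ, b, hℓ, hℓ2, hb, -, hbm⟩ := exists_prime_auto hg hgo hgC
  obtain ⟨h4, h37⟩ := prime_auto ((card_dvd_of_le hQS).trans (by rw [hS]; norm_num)) b hℓ hℓ2 hb
  obtain rfl : Q = (S : Subgroup G) := eq_of_le_of_card_ge hQS
    (by rw [hS]; exact Nat.le_of_dvd Nat.card_pos h4)
  obtain rfl : ℓ = 3 := h37.resolve_right fun e => by rw [hS] at e; omega
  have hA3 : 3 ∣ Nat.card (E8Cent.automizer S) := by
    have hm : b ∈ E8Cent.automizer S := hbm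
    have := orderOf_dvd_natCard (⟨b, hm⟩ : E8Cent.automizer S)
    rwa [Subgroup.orderOf_mk, hb] at this
  set N := normalizer ((S : Subgroup G) : Set G) with hNdef
  rcases twelve_normalizer h12 S with hs | ⟨hN, hN12⟩
  · exact exists_of_solvable h hs
  set O := Cfsg.pPrimeCore 2 G with hO
  haveI : O.Normal := inferInstance
  have hOodd : ¬ 2 ∣ Nat.card O := Core.pPrimeCore_not_dvd 2 G
  haveI hOs : Group.IsSolvable ↥O := Cfsg.Agent.S0205.result (Nat.odd_iff.2 (Nat.two_dvd_ne_zero.1 hOodd))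
  have hO3 : ¬ 3 ∣ Nat.card O := by
    intro h3
    have hle : O ⊓ N ≤ centralizer ((S : Subgroup G) : Set G) := by
      rintro x ⟨hxO, hxN⟩
      refine mem_centralizer_iff.2 fun s hs => ?_
      have h1 : x * s * x⁻¹ * s⁻¹ ∈ (S : Subgroup G) := mul_mem ((mem_normalizer_iff.1 hxN s).1 hs) (inv_mem hs)
      have h2 : x * s * x⁻¹ * s⁻¹ ∈ O := by
        rw [show x * s * x⁻¹ * s⁻¹ = x * (s * x⁻¹ * s⁻¹) by group]
        exact mul_mem hxO ((inferInstance : O.Normal).conj_mem _ (inv_mem hxO) s)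
      have h3' : x * s * x⁻¹ * s⁻¹ = 1 := by
        obtain ⟨k, hk⟩ := IsPGroup.iff_orderOf.1 S.2 ⟨_, h1⟩
        have h3 : orderOf (⟨_, h2⟩ : O) ∣ Nat.card O := orderOf_dvd_natCard _
        rw [Subgroup.orderOf_mk] at h3 hk
        rw [hk] at h3
        have hk0 : k = 0 := by
          by_contra hne
          exact hOodd ((dvd_pow_self 2 hne).trans h3)
        rwa [hk0, pow_zero, orderOf_eq_one_iff] at hk
      rw [mul_inv_eq_one, mul_inv_eq_iff_eq_mul] at h3'
      exact h3'.symm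
    have hd : 3 ∣ O.index := by
      rw [E8Cent.card_automizer] at hA3
      refine hA3.trans ((relIndex_dvd_of_le_left N hle).trans ?_)
      rw [inf_relIndex_right]
      exact relIndex_dvd_index_of_normal O N
    refine not_dvd_of_exact h Nat.card_pos.ne' (p := 3) (a := 2) Nat.prime_three (by norm_num) (by norm_num) ?_
    rw [← O.card_mul_index]
    exact (show 3 ^ 2 = 3 * 3 from rfl) ▸ Nat.mul_dvd_mul h3 hd
  by_cases h5O : 5 ∣ Nat.card O
  · refine exists_card_of_solvable (H := O ⊔ N) (isSolvable_sup hN)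
      ((show Nat.Coprime 12 5 by norm_num).mul_dvd_of_dvd_of_dvd
        (hN12.trans (card_dvd_of_le le_sup_right)) (h5O.trans (card_dvd_of_le le_sup_left))) h.co
  -- lift from the quotient
  have hco60 : Nat.Coprime (Nat.card O) 60 := by
    rw [show (60 : ℕ) = 2 ^ 2 * (3 * 5) from rfl]
    exact Nat.Coprime.mul_right (Nat.Coprime.pow_right _ ((Nat.prime_two.coprime_iff_not_dvd).2 hOodd).symm)
      (Nat.Coprime.mul_right ((Nat.prime_three.coprime_iff_not_dvd).2 hO3).symm
        (((show Nat.Prime 5 by norm_num).coprime_iff_not_dvd).2 h5O).symm)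
  have hq : IsExact 60 (Nat.card (G ⧸ O)) := by
    have e := card_eq_card_quotient_mul_card_subgroup O
    have hd : 60 ∣ Nat.card (G ⧸ O) := hco60.symm.dvd_of_dvd_mul_right (e ▸ h.dvd)
    refine ⟨hd, h.co.coprime_dvd_right ?_⟩
    rw [e]
    exact Nat.div_dvd_div hd (dvd_mul_right _ _)
  obtain ⟨H, hH⟩ := sixty_core hq Core.pPrimeCore_quotient_eq_bot
  set K := H.comap (QuotientGroup.mk' O) with hK
  have hOK : O ≤ K := fun x hx => by
    rw [hK, mem_comap, show QuotientGroup.mk' O x = 1 from (QuotientGroup.eq_one_iff x).2 hx]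
    exact one_mem _
  refine lift_complement hOK ?_ hco60
  rw [hK, Core.card_comap_eq _ (QuotientGroup.mk'_surjective O) H, hH, QuotientGroup.ker_mk']

end Cfsg.Lib.HallNumbers
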