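import Cfsg.Agent.Lib.HallNumbers.Section
import Cfsg.Agent.Lib.HallNumbers.Arith
import Cfsg.Agent.Lib.E8Cent.Auto
import Cfsg.Agent.Lib.Solv.Hall
import Cfsg.Agent.Lib.Char.Linear
import Cfsg.Agent.Lib.Invol.Basic
import Cfsg.Agent.S0087
import Cfsg.Agent.S0217
import Cfsg.Agent.S0205

/-!
# An elementary abelian Sylow 2-subgroup of order eight with automizer of order seven

If `24` is a Hall number of such a group and no involution centralizer has order divisible by three,
then the group has a subgroup of order 24.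
-/

set_option autoImplicit false
set_option linter.unusedSectionVars false
set_option linter.style.haveILetI false

namespace Cfsg.Lib.HallNumbers

open Subgroup Cfsg
open scoped Pointwise

universe u

variable {G : Type u} [Group G] [Finite G]

/-- A Hall number of a solvable subgroup is the order of a subgroup. -/
theorem exists_card_of_solvable {H : Subgroup G} (hH : Group.IsSolvable ↥H) {m : ℕ} (hm : m ∣ Nat.card H)
    (hco : m.Coprime (Nat.card G / m)) : ∃ K : Subgroup G, Nat.card K = m := by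
  haveI := hH
  obtain ⟨j, hj⟩ := hm
  have hm0 : 0 < m := Nat.pos_of_ne_zero fun h => by
    have := Nat.card_pos (α := H); rw [hj, h, zero_mul] at this; omega
  obtain ⟨r, hr⟩ := H.card_subgroup_dvd_card
  have hco' : m.Coprime j := hco.coprime_dvd_right ⟨r, by
    rw [hr, hj, mul_assoc, Nat.mul_div_cancel_left _ hm0]⟩
  obtain ⟨K, hK⟩ := Solv.hall_exists (G := H) hj hco'
  exact ⟨K.map H.subtype, by rw [card_map_of_injective H.subtype_injective, hK]⟩

theorem isSolvable_of_odd_index {H : Subgroup G} [H.Normal] (hH : Group.IsSolvable ↥H) (ho : Odd H.index) :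
    Group.IsSolvable G := by
  haveI := hH
  haveI : Group.IsSolvable (G ⧸ H) := Cfsg.Agent.S0205.result ho
  exact Group.isSolvable_of_ker_le_range H.subtype (QuotientGroup.mk' H)
    (by rw [QuotientGroup.ker_mk', range_subtype])

/-- The odd core of `C(a)`, as a closure. -/
def theta (a : G) : Subgroup G := closure {x | Commute x a ∧ Odd (orderOf x)}

theorem theta_conj {g a : G} {x : G} (hx : x ∈ theta a) : g * x * g⁻¹ ∈ theta (g * a * g⁻¹) := by
  induction hx using closure_induction with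
  | mem y hy => exact subset_closure ⟨hy.1.map (MulAut.conj g).toMonoidHom, by rw [Invol.orderOf_conj_eq]; exact hy.2⟩
  | one => simp
  | mul y z _ _ hy hz => rw [show g * (y * z) * g⁻¹ = (g * y * g⁻¹) * (g * z * g⁻¹) by group]; exact mul_mem hy hz
  | inv y _ hy => rw [← conj_inv]; exact inv_mem hy

variable {S : Sylow 2 G} (h8 : Nat.card (S : Subgroup G) = 8) (hsq : ∀ s ∈ (S : Subgroup G), s * s = 1)
  (h7 : Nat.card (E8Cent.automizer S) = 7)

include hsq in
theorem commute_S {a b : G} (ha : a ∈ (S : Subgroup G)) (hb : b ∈ (S : Subgroup G)) : Commute a b := by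
  have i1 : ∀ s ∈ (S : Subgroup G), s⁻¹ = s := fun s hs => inv_eq_of_mul_eq_one_right (hsq s hs)
  show a * b = b * a
  calc a * b = (a * b)⁻¹ := (i1 _ (mul_mem ha hb)).symm
    _ = b * a := by rw [_root_.mul_inv_rev, i1 a ha, i1 b hb]

include h8 hsq h7 in
/-- The normalizer fuses the involutions, and only the centralizer fixes one. -/
theorem fusion :
    (∀ s ∈ (S : Subgroup G), ∀ t ∈ (S : Subgroup G), s ≠ 1 → t ≠ 1 →
      ∃ g ∈ normalizer ((S : Subgroup G) : Set G), g * t * g⁻¹ = s) ∧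
    ∀ g ∈ normalizer ((S : Subgroup G) : Set G), ∀ t ∈ (S : Subgroup G), t ≠ 1 → Commute g t →
      g ∈ centralizer ((S : Subgroup G) : Set G) := by
  haveI hc : IsMulCommutative (S : Subgroup G) := ⟨⟨fun a b => Subtype.ext (commute_S hsq a.2 b.2).eq⟩⟩
  have hel : IsElementaryAbelian 2 (S : Subgroup G) := ⟨hc, fun s hs => by rw [pow_two]; exact hsq s hs⟩
  have htr : ∀ {s t : (S : Subgroup G)}, s ≠ 1 → t ≠ 1 → ∃ a : E8Cent.automizer S, a • t = s := fun hs ht =>
    E8Cent.transitive_of_seven h8 hel (by rw [h7]) hs ht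
  refine ⟨fun s hs t ht hs1 ht1 => ?_, fun g hg t ht ht1 hgt => ?_⟩
  · obtain ⟨a, ha⟩ := htr (s := ⟨s, hs⟩) (t := ⟨t, ht⟩) (fun e => hs1 (congrArg Subtype.val e))
      (fun e => ht1 (congrArg Subtype.val e))
    obtain ⟨n, hn, hna⟩ := (E8Cent.mem_automizer_iff S).1 a.2
    exact ⟨n, hn, (hna ⟨t, ht⟩).symm.trans (congrArg Subtype.val ha)⟩
  · haveI : Fact (Nat.Prime 7) := ⟨by norm_num⟩
    let a : E8Cent.automizer S := ⟨(S : Subgroup G).normalizerMonoidHom ⟨g, hg⟩, ⟨_, rfl⟩⟩
    have hfix : ((a : MulAut (S : Subgroup G)) ⟨t, ht⟩) = ⟨t, ht⟩ := Subtype.ext (by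
      show g * t * g⁻¹ = t
      rw [hgt.eq, mul_inv_cancel_right])
    by_contra hne
    have ha1 : a ≠ 1 := fun e => hne (by
      have e' : (⟨g, hg⟩ : ↥(normalizer ((S : Subgroup G) : Set G))) ∈ (S : Subgroup G).normalizerMonoidHom.ker :=
        congrArg Subtype.val e
      rwa [normalizerMonoidHom_ker, mem_subgroupOf] at e')
    obtain ⟨s, hs, hs1, hst⟩ : ∃ s ∈ (S : Subgroup G), s ≠ 1 ∧ s ≠ t := by
      by_contra hall
      push Not at hall
      have : (S : Subgroup G) ≤ zpowers t := fun x hx => by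
        rcases eq_or_ne x 1 with rfl | h1
        · exact one_mem _
        · rw [hall x hx h1]; exact mem_zpowers t
      have h2 := card_le_of_le this
      rw [Nat.card_zpowers, h8, orderOf_eq_prime (p := 2) (by rw [pow_two, hsq t ht]) ht1] at h2
      omega
    obtain ⟨b, hb⟩ := htr (s := ⟨s, hs⟩) (t := ⟨t, ht⟩) (fun e => hs1 (congrArg Subtype.val e))
      (fun e => ht1 (congrArg Subtype.val e))
    have htop : zpowers a = ⊤ := zpowers_eq_top_of_prime_card h7 ha1
    obtain ⟨i, rfl⟩ := mem_zpowers_iff.1 (htop ▸ mem_top b : b ∈ zpowers a)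
    have hfix' : (a ^ i) • (⟨t, ht⟩ : (S : Subgroup G)) = ⟨t, ht⟩ := by
      have h1 : a ∈ MulAction.stabilizer (E8Cent.automizer S) (⟨t, ht⟩ : (S : Subgroup G)) := hfix
      exact zpow_mem h1 i
    exact hst (congrArg Subtype.val (hb.symm.trans hfix'))

include h8 hsq h7 in
/-- The centralizer of an involution of `S` is `S θ`. -/
theorem centralizer_structure {t : G} (ht : t ∈ (S : Subgroup G)) (ht1 : t ≠ 1) :
    (∀ x, x ∈ theta t ↔ Commute x t ∧ Odd (orderOf x)) ∧ ¬ 2 ∣ Nat.card (theta t) ∧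
      ∀ c ∈ centralizer ({t} : Set G), ∃ s ∈ (S : Subgroup G), ∃ k ∈ theta t, c = s * k := by
  haveI : Fact (Nat.Prime 2) := ⟨Nat.prime_two⟩
  set C := centralizer ({t} : Set G)
  have hSC : (S : Subgroup G) ≤ C := fun s hs => mem_centralizer_singleton_iff.2 (commute_S hsq hs ht).eq
  let T : Sylow 2 C := S.subtype hSC
  obtain ⟨K, hKn, hK⟩ := Cfsg.Agent.S0087.result (T : Subgroup C) T.card_coprime_index (fun n hn => by
    have hnG : (n : G) ∈ normalizer ((S : Subgroup G) : Set G) := by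
      refine mem_normalizer_iff.2 fun x => ⟨fun hx => ?_, fun hx => ?_⟩
      · exact (mem_normalizer_iff.1 hn ⟨x, hSC hx⟩).1 hx
      · have hxC : x ∈ C := by
          have := mul_mem (mul_mem (inv_mem n.2) (hSC hx)) n.2
          simpa [mul_assoc] using this
        exact (mem_normalizer_iff.1 hn ⟨x, hxC⟩).2 hx
    have := (fusion h8 hsq h7).2 n hnG t ht ht1 (mem_centralizer_singleton_iff.1 n.2)
    exact mem_centralizer_iff.2 fun y hy => Subtype.ext (mem_centralizer_iff.1 this y hy))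
  haveI := hKn
  have hKodd : ¬ 2 ∣ Nat.card K := by
    have : (T : Subgroup C).index = Nat.card K := hK.index_eq_card
    rw [← this]
    exact T.not_dvd_index
  have hmem : ∀ x : C, Odd (orderOf x) → x ∈ K := by
    intro x hx
    rw [← QuotientGroup.eq_one_iff, ← orderOf_eq_one_iff]
    have h1 : orderOf (x : C ⧸ K) ∣ orderOf x := orderOf_map_dvd (QuotientGroup.mk' K) x
    have h2 : orderOf (x : C ⧸ K) ∣ 2 ^ 3 := by
      have hT : Nat.card ↥(T : Subgroup C) = 8 :=
        (Nat.card_congr (subgroupOfEquivOfLe hSC).toEquiv).trans h8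
      rw [show (2 : ℕ) ^ 3 = Nat.card (C ⧸ K) by rw [← index_eq_card, (IsComplement'.symm hK).index_eq_card, hT]; rfl]
      exact orderOf_dvd_natCard _
    exact Nat.eq_one_of_dvd_coprimes (((Nat.coprime_two_left).2 hx).pow_left 3).symm h1 h2
  have hKeq : ∀ x, x ∈ K.map C.subtype ↔ Commute x t ∧ Odd (orderOf x) := by
    intro x
    constructor
    · rintro ⟨y, hy, rfl⟩
      refine ⟨mem_centralizer_singleton_iff.1 y.2, ?_⟩
      show Odd (orderOf (y : G))
      rw [Subgroup.orderOf_coe]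
      exact (Nat.not_even_iff_odd.1 fun e => hKodd
        ((even_iff_two_dvd.1 e).trans ((Subgroup.orderOf_mk y hy) ▸ orderOf_dvd_natCard (⟨y, hy⟩ : K))))
    · rintro ⟨hxt, hxo⟩
      exact ⟨⟨x, mem_centralizer_singleton_iff.2 hxt⟩, hmem _ (by rwa [Subgroup.orderOf_mk]), rfl⟩
  have hθ : theta t = K.map C.subtype :=
    le_antisymm ((closure_le _).2 fun x hx => (hKeq x).2 hx) fun x hx => subset_closure ((hKeq x).1 hx)
  refine ⟨by rw [hθ]; exact hKeq, ?_, fun c hc => ?_⟩
  · rw [hθ, card_map_of_injective C.subtype_injective]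
    exact hKodd
  · obtain ⟨⟨s, k⟩, e⟩ := (IsComplement'.symm hK).2 ⟨c, hc⟩
    exact ⟨(s.1 : G), s.2, (k.1 : G), by rw [hθ]; exact mem_map_of_mem _ k.2, (congrArg Subtype.val e).symm⟩

include h8 hsq h7 in
theorem exists_twentyFour (h24 : 24 ∣ Nat.card G) (hco : Nat.Coprime 24 (Nat.card G / 24))
    (hC3 : ∀ t ∈ (S : Subgroup G), t ≠ 1 → ¬ 3 ∣ Nat.card (centralizer ({t} : Set G))) :
    ∃ H : Subgroup G, Nat.card H = 24 := by
  classical
  by_contra hno
  haveI : Fact (Nat.Prime 2) := ⟨Nat.prime_two⟩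
  haveI := Fintype.ofFinite G
  set T := (S : Subgroup G) with hT
  have hfus := fusion h8 hsq h7
  have hst := fun t (ht : t ∈ T) ht1 => centralizer_structure h8 hsq h7 (t := t) ht ht1
  -- the signalizer closure
  obtain ⟨hWodd, hWC⟩ := Cfsg.Agent.S0217.result (p := 2) T (fun a ha b hb => (commute_S hsq ha hb).eq)
    (fun a ha => by rw [pow_two]; exact hsq a ha) (by rw [h8]; norm_num) theta
    (fun a ha ha1 x hx => mem_centralizer_singleton_iff.2 ((hst a ha ha1).1 x |>.1 hx).1.eq)
    (fun a ha ha1 => (hst a ha ha1).2.1)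
    (fun a ha ha1 b hb x hx => by
      have := theta_conj (g := b) hx
      rwa [(commute_S hsq hb ha).eq, mul_inv_cancel_right] at this)
    (fun a ha ha1 => Cfsg.Agent.S0205.result (Nat.odd_iff.2 (Nat.two_dvd_ne_zero.1 (hst a ha ha1).2.1)))
    (fun a ha ha1 b hb hb1 x hx => ((hst b hb hb1).1 x).2
      ⟨mem_centralizer_singleton_iff.1 hx.2, (((hst a ha ha1).1 x).1 hx.1).2⟩)
  set W : Subgroup G := ⨆ a : {a : G // a ∈ T ∧ a ≠ 1}, theta a.1 with hW
  set N := normalizer (T : Set G) with hN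
  have hθW : ∀ a ∈ T, a ≠ 1 → theta a ≤ W := fun a ha ha1 => le_iSup_of_le ⟨a, ha, ha1⟩ le_rfl
  have hWN : N ≤ normalizer (W : Set G) := by
    have key : ∀ g ∈ N, W.map (MulAut.conj g).toMonoidHom ≤ W := by
      intro g hg
      rw [hW, Subgroup.map_iSup]
      refine iSup_le fun a => ?_
      rintro _ ⟨x, hx, rfl⟩
      exact hθW (g * a.1 * g⁻¹) ((mem_normalizer_iff.1 hg _).1 a.2.1)
        (fun e => a.2.2 (conj_eq_one_iff.1 e)) (theta_conj hx)
    intro g hg
    refine mem_normalizer_iff.2 fun x => ⟨fun hx => key g hg ⟨x, hx, rfl⟩, fun hx => ?_⟩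
    have := key g⁻¹ (inv_mem hg) ⟨_, hx, rfl⟩
    simpa [mul_assoc] using this
  set M := W ⊔ N with hMdef
  have hTN : T ≤ N := le_normalizer
  have hTM : T ≤ M := hTN.trans le_sup_right
  have hCM : ∀ a ∈ T, a ≠ 1 → centralizer ({a} : Set G) ≤ M := by
    intro a ha ha1 c hc
    obtain ⟨s, hs, k, hk, rfl⟩ := (hst a ha ha1).2.2 c hc
    exact mul_mem (hTM hs) (le_sup_left (a := W) (hθW a ha ha1 hk))
  -- `M` is solvable
  have hMnorm : M ≤ normalizer (W : Set G) := sup_le le_normalizer hWN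
  haveI hWn : (W.subgroupOf M).Normal := normal_subgroupOf_of_le_normalizer hMnorm
  haveI : Group.IsSolvable ↥(W.subgroupOf M) := by
    refine Cfsg.Agent.S0205.result ?_
    rw [Nat.card_congr (subgroupOfEquivOfLe (le_sup_left : W ≤ M)).toEquiv]
    exact Nat.odd_iff.2 (Nat.two_dvd_ne_zero.1 hWodd)
  have hgen : ∀ x : M, ∃ w ∈ W, ∃ g ∈ N, (x : G) = w * g := by
    intro x
    have hx : (x : G) ∈ ((W : Set G) * (N : Set G)) := by
      rw [← coe_mul_of_right_le_normalizer_left W N hWN]; exact x.2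
    obtain ⟨w, hw, g, hg, e⟩ := hx
    exact ⟨w, hw, g, hg, e.symm⟩
  haveI hNsol : Group.IsSolvable ↥N := by
    haveI : (T.subgroupOf N).Normal := normal_subgroupOf_of_le_normalizer le_rfl
    refine isSolvable_of_odd_index (H := T.subgroupOf N) ?_ ?_
    · exact Group.isSolvable_of_comm fun a b => Subtype.ext (Subtype.ext (commute_S hsq a.2 b.2).eq)
    · rw [← Nat.not_even_iff_odd, even_iff_two_dvd]
      exact fun hd => S.not_dvd_index (hd.trans ((Dvd.intro (N.index) (relIndex_mul_index hTN))))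
  let f : N →* M ⧸ W.subgroupOf M :=
    (QuotientGroup.mk' _).comp (inclusion (le_sup_right : N ≤ M))
  have hfs : Function.Surjective f := by
    intro q
    obtain ⟨x, rfl⟩ := QuotientGroup.mk_surjective q
    obtain ⟨w, hw, g, hg, e⟩ := hgen x
    refine ⟨⟨g, hg⟩, ?_⟩
    show QuotientGroup.mk _ = _
    rw [QuotientGroup.eq, mem_subgroupOf]
    show g⁻¹ * (x : G) ∈ W
    rw [e]
    simpa [mul_assoc] using (mem_normalizer_iff.1 (hWN (inv_mem hg)) w).1 hw
  haveI : Group.IsSolvable (M ⧸ W.subgroupOf M) := Group.isSolvable_of_surjective hfs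
  haveI hMsol : Group.IsSolvable ↥M := Group.isSolvable_of_ker_le_range (W.subgroupOf M).subtype
    (QuotientGroup.mk' (W.subgroupOf M)) (by rw [QuotientGroup.ker_mk', range_subtype])
  obtain ⟨k, hk⟩ := h24
  rw [hk, Nat.mul_div_cancel_left _ (by norm_num : 0 < 24)] at hco
  have hk3 : ¬ 3 ∣ k := fun h => by
    have := Nat.Coprime.coprime_dvd_left (by norm_num : 3 ∣ 24) hco
    exact Nat.not_coprime_of_dvd_of_dvd (by norm_num) dvd_rfl h this
  have hM8 : 8 ∣ Nat.card M := h8 ▸ card_dvd_of_le hTM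
  have hM3 : ¬ 3 ∣ Nat.card M := fun h3 => hno (exists_card_of_solvable hMsol
    ((Nat.Coprime.mul_dvd_of_dvd_of_dvd (by norm_num : Nat.Coprime 8 3) hM8 h3))
    (by rw [hk, Nat.mul_div_cancel_left _ (by norm_num : 0 < 24)]; exact hco))
  -- the index
  have hn3 : 3 ∣ M.index ∧ ¬ 9 ∣ M.index := by
    have e := M.card_mul_index
    refine ⟨?_, fun h9 => hk3 ?_⟩
    · exact ((Nat.Prime.dvd_mul Nat.prime_three).1 (e ▸ hk ▸ Dvd.dvd.mul_right (by norm_num) k)).resolve_left hM3
    · have : 9 ∣ 24 * k := hk ▸ e ▸ h9.mul_left _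
      omega
  have hn8 : M.index % 8 = 1 := by
    have hfix : ∀ s : T, s ≠ 1 → ∀ q : G ⧸ M, s • q = q → q = ((1 : G) : G ⧸ M) := by
      intro s hs q
      obtain ⟨g, rfl⟩ := QuotientGroup.mk_surjective q
      intro e
      have hm : g⁻¹ * (s : G) * g ∈ M := by
        have e' : (((s : G) * g : G) : G ⧸ M) = (g : G ⧸ M) := e
        have := QuotientGroup.eq.1 e'.symm
        rwa [← mul_assoc] at this
      have hs1 : (s : G) ≠ 1 := fun h => hs (Subtype.ext h)
      have ho : orderOf (g⁻¹ * (s : G) * g) = 2 := by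
        have h2 := Invol.orderOf_conj_eq g⁻¹ (s : G)
        rw [inv_inv] at h2
        rw [h2]
        exact orderOf_eq_prime (by rw [pow_two]; exact hsq _ s.2) hs1
      let TM : Sylow 2 M := S.subtype hTM
      obtain ⟨P, hP⟩ := (IsPGroup.of_card (p := 2) (n := 1) (by
        rw [Nat.card_zpowers, Subgroup.orderOf_mk, ho, pow_one]) :
          IsPGroup 2 ↥(zpowers (⟨_, hm⟩ : M))).exists_le_sylow
      obtain ⟨m, hm'⟩ := MulAction.exists_smul_eq M P TM
      have hmem : m * ⟨_, hm⟩ * m⁻¹ ∈ (TM : Subgroup M) := by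
        rw [← hm', Sylow.coe_subgroup_smul]
        exact smul_mem_pointwise_smul _ _ _ (hP (mem_zpowers _))
      have hmemT : (m : G) * (g⁻¹ * (s : G) * g) * (m : G)⁻¹ ∈ T := hmem
      have hne : (m : G) * (g⁻¹ * (s : G) * g) * (m : G)⁻¹ ≠ 1 := fun h => by
        rw [conj_eq_one_iff] at h
        rw [h, orderOf_one] at ho
        omega
      obtain ⟨n, hn, hns⟩ := hfus.1 _ s.2 _ hmemT hs1 hne
      have hc : n * (m : G) * g⁻¹ ∈ centralizer ({(s : G)} : Set G) := by
        refine mem_centralizer_singleton_iff.2 ?_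
        have e2 : n * (m : G) * g⁻¹ * (s : G) * (n * (m : G) * g⁻¹)⁻¹ = s := by
          calc n * (m : G) * g⁻¹ * (s : G) * (n * (m : G) * g⁻¹)⁻¹
              = n * ((m : G) * (g⁻¹ * (s : G) * g) * (m : G)⁻¹) * n⁻¹ := by group
            _ = s := hns
        exact mul_inv_eq_iff_eq_mul.1 e2
      have hgM : g⁻¹ ∈ M := by
        have h1 := mul_mem (inv_mem (mul_mem (le_sup_right (a := W) hn) m.2)) (hCM _ s.2 hs1 hc)
        rwa [inv_mul_cancel_left] at h1
      rw [QuotientGroup.eq, mul_one]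
      exact hgM
    haveI := Fintype.ofFinite (G ⧸ M)
    haveI := Fintype.ofFinite T
    haveI : Fintype (MulAction.orbitRel.Quotient T (G ⧸ M)) := Fintype.ofFinite _
    have hsum := MulAction.sum_card_fixedBy_eq_card_orbits_mul_card_group T (G ⧸ M)
    rw [← Finset.add_sum_erase _ _ (Finset.mem_univ (1 : T))] at hsum
    have h1 : ∀ s ∈ (Finset.univ : Finset T).erase 1, Fintype.card (MulAction.fixedBy (G ⧸ M) s) = 1 := by
      intro s hs
      rw [Fintype.card_eq_one_iff]
      refine ⟨⟨((1 : G) : G ⧸ M), ?_⟩, fun q => Subtype.ext (hfix s (Finset.ne_of_mem_erase hs) q.1 q.2)⟩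
      show (((s : G) * 1 : G) : G ⧸ M) = _
      rw [mul_one, QuotientGroup.eq, mul_one]
      exact inv_mem (hTM s.2)
    rw [Finset.sum_congr rfl h1, Finset.sum_const, Finset.card_erase_of_mem (Finset.mem_univ _),
      Finset.card_univ, ← Nat.card_eq_fintype_card, ← Nat.card_eq_fintype_card (α := T), h8, smul_eq_mul,
      mul_one] at hsum
    have hid : Nat.card (MulAction.fixedBy (G ⧸ M) (1 : T)) = M.index := by
      rw [MulAction.fixedBy_one_eq_univ, Nat.card_univ]; rfl
    rw [hid] at hsum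
    omega
  -- the two sections
  obtain ⟨t, htT, ht1⟩ : ∃ t ∈ T, t ≠ 1 := by
    refine (bot_or_exists_ne_one T).resolve_left fun e => ?_
    rw [e, card_bot] at h8
    omega
  obtain ⟨hθmem, hθodd, hθgen⟩ := hst t htT ht1
  have htord : orderOf t = 2 := orderOf_eq_prime (by rw [pow_two, hsq t htT]) ht1
  have hTC : T ≤ centralizer ({t} : Set G) := fun s hs => mem_centralizer_singleton_iff.2 (commute_S hsq hs htT).eq
  have hθC : theta t ≤ centralizer ({t} : Set G) := fun x hx => mem_centralizer_singleton_iff.2 ((hθmem x).1 hx).1.eq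
  have hsecG : Section8 t T (theta t) :=
    { ord := htord
      memS := htT
      card := h8
      sq := hsq
      fused := fun s hs hs1 => by
        obtain ⟨g, -, hg⟩ := hfus.1 s hs t htT hs1 ht1
        exact isConj_iff.2 ⟨g, hg⟩
      S_le := hTC
      O_le := hθC
      odd := hθodd
      normal := fun c hc k hk => by
        have := theta_conj (g := c) hk
        rwa [mem_centralizer_singleton_iff.1 hc, mul_inv_cancel_right] at this
      gen := hθgen }
  have hθM : theta t ≤ M := (hθW t htT ht1).trans le_sup_left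
  set t' : M := ⟨t, hTM htT⟩ with ht'
  have hcent : ∀ c : M, c ∈ centralizer ({t'} : Set M) ↔ (c : G) ∈ centralizer ({t} : Set G) := fun c => by
    rw [mem_centralizer_singleton_iff, mem_centralizer_singleton_iff, Subtype.ext_iff]
    rfl
  have hsecM : Section8 t' (T.subgroupOf M) ((theta t).subgroupOf M) :=
    { ord := by rw [ht', Subgroup.orderOf_mk, htord]
      memS := htT
      card := (Nat.card_congr (subgroupOfEquivOfLe hTM).toEquiv).trans h8
      sq := fun s hs => Subtype.ext (hsq s hs)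
      fused := fun s hs hs1 => by
        obtain ⟨g, hg, hgt⟩ := hfus.1 s hs t htT (fun e => hs1 (Subtype.ext e)) ht1
        exact isConj_iff.2 ⟨⟨g, le_sup_right (a := W) hg⟩, Subtype.ext hgt⟩
      S_le := fun s hs => (hcent s).2 (hTC hs)
      O_le := fun s hs => (hcent s).2 (hθC hs)
      odd := by rw [Nat.card_congr (subgroupOfEquivOfLe hθM).toEquiv]; exact hθodd
      normal := fun c hc k hk => hsecG.normal c ((hcent c).1 hc) k hk
      gen := fun c hc => by
        obtain ⟨s, hs, x, hx, e⟩ := hθgen c ((hcent c).1 hc)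
        exact ⟨⟨s, hTM hs⟩, hs, ⟨x, hθM hx⟩, hx, Subtype.ext e⟩ }
  haveI := Fintype.ofFinite M
  obtain ⟨A, hA⟩ := hsecG.exists_column
  obtain ⟨B, hB⟩ := hsecM.exists_column
  have hpair : pairCount t (theta t) = pairCount t' ((theta t).subgroupOf M) := by
    refine Nat.card_congr
      { toFun := fun p => ⟨(⟨p.1.1, hCM t htT ht1 p.2.1⟩, ⟨p.1.2, hCM t htT ht1 p.2.2.1⟩),
          (hcent _).2 p.2.1, (hcent _).2 p.2.2.1, by rw [Subgroup.orderOf_mk]; exact p.2.2.2.1,
          by rw [Subgroup.orderOf_mk]; exact p.2.2.2.2.1, p.2.2.2.2.2⟩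
        invFun := fun p => ⟨(p.1.1.1, p.1.2.1), (hcent _).1 p.2.1, (hcent _).1 p.2.2.1,
          (Subgroup.orderOf_coe p.1.1).trans p.2.2.2.1, (Subgroup.orderOf_coe p.1.2).trans p.2.2.2.2.1,
          p.2.2.2.2.2⟩
        left_inv := fun p => rfl
        right_inv := fun p => rfl }
  -- seven linear characters of `M`
  set K := (W ⊔ centralizer (T : Set G)).subgroupOf M with hKdef
  have hCN : centralizer (T : Set G) ≤ N := centralizer_le_normalizer _
  haveI hKn : K.Normal := by
    refine normal_subgroupOf_of_le_normalizer (sup_le ?_ ?_)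
    · exact le_sup_left.trans le_normalizer
    · intro g hg
      have h1 : (W ⊔ centralizer (T : Set G)).map (MulAut.conj g).toMonoidHom = W ⊔ centralizer (T : Set G) := by
        rw [Subgroup.map_sup, show W.map (MulAut.conj g).toMonoidHom = W from mem_normalizer_iff_map_conj_eq.1 (hWN hg)]
        congr 1
        haveI : ((centralizer (T : Set G)).subgroupOf N).Normal := by
          rw [← normalizerMonoidHom_ker]; infer_instance
        exact mem_normalizer_iff_map_conj_eq.1
          ((normal_subgroupOf_iff_le_normalizer hCN).1 inferInstance hg)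
      exact mem_normalizer_iff_map_conj_eq.2 h1
  let φ : N →* M ⧸ K := (QuotientGroup.mk' K).comp (inclusion (le_sup_right : N ≤ M))
  have hφs : Function.Surjective φ := by
    intro q
    obtain ⟨x, rfl⟩ := QuotientGroup.mk_surjective q
    obtain ⟨w, hw, g, hg, e⟩ := hgen x
    refine ⟨⟨g, hg⟩, ?_⟩
    show QuotientGroup.mk _ = _
    rw [QuotientGroup.eq, hKdef, mem_subgroupOf]
    show g⁻¹ * (x : G) ∈ W ⊔ centralizer (T : Set G)
    rw [e]
    exact le_sup_left (b := centralizer (T : Set G))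
      (by simpa [mul_assoc] using (mem_normalizer_iff.1 (hWN (inv_mem hg)) w).1 hw)
  have hker : φ.ker = (centralizer (T : Set G)).subgroupOf N := by
    ext g
    rw [MonoidHom.mem_ker, mem_subgroupOf]
    show (QuotientGroup.mk _ : M ⧸ K) = 1 ↔ _
    rw [QuotientGroup.eq_one_iff, hKdef, mem_subgroupOf]
    show (g : G) ∈ W ⊔ centralizer (T : Set G) ↔ _
    refine ⟨fun hg => ?_, fun hg => le_sup_right (a := W) hg⟩
    have hg' : (g : G) ∈ ((W : Set G) * (centralizer (T : Set G) : Set G)) := by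
      rw [← coe_mul_of_right_le_normalizer_left W _ (hCN.trans hWN)]; exact hg
    obtain ⟨w, hw, c, hc, e⟩ := hg'
    have hwN : w ∈ N := by
      rw [show w = (g : G) * c⁻¹ by rw [← e]; group]
      exact mul_mem g.2 (inv_mem (hCN hc))
    have hwC : w ∈ centralizer (T : Set G) := by
      refine mem_centralizer_iff.2 fun s hs => ?_
      have h1 : w * s * w⁻¹ * s⁻¹ ∈ T := mul_mem ((mem_normalizer_iff.1 hwN s).1 hs) (inv_mem hs)
      have h2 : w * s * w⁻¹ * s⁻¹ ∈ W := by
        rw [show w * s * w⁻¹ * s⁻¹ = w * (s * w⁻¹ * s⁻¹) by group]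
        exact mul_mem hw ((mem_normalizer_iff.1 (hWN (hTN hs)) _).1 (inv_mem hw))
      have h3 : w * s * w⁻¹ * s⁻¹ = 1 := by
        by_contra hne
        refine hWodd ?_
        have h4 := orderOf_dvd_natCard (⟨_, h2⟩ : W)
        rwa [Subgroup.orderOf_mk, orderOf_eq_prime (p := 2) (by rw [pow_two]; exact hsq _ h1) hne] at h4
      rw [mul_inv_eq_one, mul_inv_eq_iff_eq_mul] at h3
      exact h3.symm
    rw [← e]
    exact mul_mem hwC hc
  have hQ7 : Nat.card (M ⧸ K) = 7 := by
    rw [← Nat.card_congr (QuotientGroup.quotientKerEquivOfSurjective φ hφs).toEquiv, ← index_eq_card, hker,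
      ← relIndex, ← E8Cent.card_automizer]
    exact h7
  haveI : Fact (Nat.Prime 7) := ⟨by norm_num⟩
  haveI := isCyclic_of_prime_card hQ7
  have hcomm : commutator (M ⧸ K) = ⊥ := by
    rw [_root_.commutator_def, commutator_eq_bot_iff_le_centralizer]
    intro x _
    exact mem_centralizer_iff.2 fun y _ => IsCyclic.commGroup.mul_comm y x
  have hL7 : Nat.card (M ⧸ K →* ℂˣ) = 7 := by
    rw [Char.card_linear_eq_index, hcomm, index_bot, hQ7]
  haveI : Finite (M ⧸ K →* ℂˣ) := Nat.finite_of_card_ne_zero (by rw [hL7]; norm_num)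
  haveI := Fintype.ofFinite (M ⧸ K →* ℂˣ)
  let lin : (M ⧸ K →* ℂˣ) → IrrCharacter M := fun l =>
    ⟨_, Char.isIrrCharacter_linear (l.comp (QuotientGroup.mk' K))⟩
  have hlinj : Function.Injective lin := fun l l' e => MonoidHom.ext fun q => by
    obtain ⟨x, rfl⟩ := QuotientGroup.mk_surjective q
    exact Units.ext (congrFun (congrArg Subtype.val e) x)
  have hl1 : ∀ l, B (lin l) = 1 ∧ charDegree (lin l : M → ℂ) = 1 := by
    intro l
    have h1 : (lin l : M → ℂ) 1 = 1 := by simp [lin]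
    have hd : charDegree (lin l : M → ℂ) = 1 := by
      have := (lin l).2.apply_one_eq_charDegree
      rw [h1] at this
      exact_mod_cast this.symm
    refine ⟨?_, hd⟩
    rw [hB.const (lin l) fun x hx => ?_, hd, Nat.cast_one]
    rw [h1]
    have hin : t' * x ∈ K := by
      rw [hKdef, mem_subgroupOf]
      show t * (x : G) ∈ _
      exact mul_mem (le_sup_right (a := W) (mem_centralizer_iff.2 fun s hs => (commute_S hsq hs htT).eq))
        (le_sup_left (b := centralizer (T : Set G)) (hθW t htT ht1 hx))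
    simp [lin, (QuotientGroup.eq_one_iff _).2 hin]
  set L : Finset (IrrCharacter M) := Finset.univ.image lin with hL
  have hLcard : L.card = 7 := by
    rw [hL, Finset.card_image_of_injective _ hlinj, Finset.card_univ, ← Nat.card_eq_fintype_card, hL7]
  have hLmem : ∀ χ ∈ L, B χ = 1 ∧ charDegree (χ : M → ℂ) = 1 := by
    intro χ hχ
    obtain ⟨l, -, rfl⟩ := Finset.mem_image.1 hχ
    exact hl1 l
  have split : ∀ {α : Type} [AddCommMonoid α] (F : IrrCharacter M → α) (c : α),
      (∀ χ ∈ L, F χ = c) → ∑ χ, F χ = 7 • c + ∑ χ ∈ Lᶜ, F χ := by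
    intro α _ F c hF
    rw [← Finset.sum_add_sum_compl L, Finset.sum_congr rfl hF, Finset.sum_const, hLcard]
  have hn1 := hB.norm
  rw [split _ 1 fun χ hχ => by rw [(hLmem χ hχ).1, one_pow]] at hn1
  simp only [nsmul_eq_mul, Nat.cast_ofNat, mul_one] at hn1
  have hn1' : ∑ χ ∈ Lᶜ, B χ ^ 2 = 1 := by omega
  obtain ⟨χ₀, hχ₀, hχne⟩ : ∃ χ ∈ Lᶜ, B χ ≠ 0 := by
    by_contra hall
    push Not at hall
    rw [Finset.sum_eq_zero fun χ hχ => by rw [hall χ hχ]; norm_num] at hn1'
    omega
  rw [← Finset.add_sum_erase _ _ hχ₀] at hn1'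
  have hsq0 : 0 < B χ₀ ^ 2 := by positivity
  have hrest0 : 0 ≤ ∑ χ ∈ Lᶜ.erase χ₀, B χ ^ 2 := Finset.sum_nonneg fun χ _ => sq_nonneg _
  have hz : ∀ χ ∈ Lᶜ.erase χ₀, B χ = 0 := fun χ hχ => pow_eq_zero_iff two_ne_zero |>.1
    ((Finset.sum_eq_zero_iff_of_nonneg fun χ _ => sq_nonneg (B χ)).1 (by omega) χ hχ)
  have ho1 := hB.orth
  rw [split _ 1 fun χ hχ => by rw [(hLmem χ hχ).1, (hLmem χ hχ).2]; norm_num,
    Finset.sum_eq_single_of_mem χ₀ hχ₀ fun χ hχ hne => by
      rw [hz χ (Finset.mem_erase.2 ⟨hne, hχ⟩), zero_mul]] at ho1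
  simp only [nsmul_eq_mul, Nat.cast_ofNat, mul_one] at ho1
  have hd0 : (0 : ℤ) ≤ (charDegree (χ₀ : M → ℂ) : ℤ) := Int.natCast_nonneg _
  have hone : B χ₀ ^ 2 = 1 := by omega
  rcases sq_eq_one_iff.1 hone with e | e
  · rw [e] at ho1; omega
  have hd7 : charDegree (χ₀ : M → ℂ) = 7 := by rw [e] at ho1; omega
  have hMsum : ∑ χ, (B χ : ℚ) ^ 3 / (charDegree (χ : M → ℂ) : ℚ) = 48 / 7 := by
    rw [split _ 1 fun χ hχ => by rw [(hLmem χ hχ).1, (hLmem χ hχ).2]; norm_num,
      Finset.sum_eq_single_of_mem χ₀ hχ₀ fun χ hχ hne => by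
        rw [hz χ (Finset.mem_erase.2 ⟨hne, hχ⟩)]; norm_num, e, hd7]
    norm_num
  -- the equation
  have heq : (M.index : ℚ) * ∑ χ, (A χ : ℚ) ^ 3 / (charDegree (χ : G → ℂ) : ℚ) = 48 / 7 := by
    have e1 := hA.count
    have e2 := hB.count
    rw [hpair] at e1
    rw [Nat.card_congr (subgroupOfEquivOfLe hθM).toEquiv] at e2
    rw [hMsum] at e2
    have hc : (Nat.card G : ℚ) = (Nat.card M : ℚ) * M.index := by exact_mod_cast (M.card_mul_index).symm
    have hM0 : (Nat.card M : ℚ) ≠ 0 := Nat.cast_ne_zero.2 Nat.card_pos.ne'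
    refine mul_left_cancel₀ hM0 ?_
    rw [← mul_assoc, ← hc, e1, e2]
  exact false_of_column A (fun χ => charDegree (χ : G → ℂ)) (Block.trivChar G) hA.triv
    (by
      have := (Block.trivChar G).2.apply_one_eq_charDegree
      simp only [Block.trivChar_coe] at this
      exact_mod_cast this.symm)
    (fun χ => by
      obtain ⟨d, hd, he⟩ := χ.2.exists_degree
      have := χ.2.apply_one_eq_charDegree
      rw [he] at this
      have e' : d = charDegree (χ : G → ℂ) := by exact_mod_cast this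
      omega)
    hA.norm hA.orth hA.cong M.index hn8 hn3.1 hn3.2 heq

end Cfsg.Lib.HallNumbers
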