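import Cfsg.Agent.Lib.Dickson.Orders

/-!
# Numbers which are not Hall numbers: `PSL(2, r)` for suitable primes `r`
-/

set_option autoImplicit false

namespace Cfsg.Lib.HallNumbers

/-- A number which is neither a prime power nor twice an odd number splits suitably. -/
theorem exists_split {m : ℕ} (hm : 2 ≤ m) (hpp : ¬ IsPrimePow m) (h2 : m % 4 ≠ 2) :
    ∃ a b : ℕ, m = a * b ∧ a.Coprime b ∧ 3 ≤ a ∧ 1 < b ∧ b % 2 = 1 ∧ (a % 2 = 1 ∨ 4 ∣ a) := by
  have hm0 : m ≠ 0 := by omega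
  have hm1 : m ≠ 1 := by omega
  have hp := Nat.minFac_prime hm1
  obtain ⟨p, hpdef⟩ : ∃ p, p = m.minFac := ⟨_, rfl⟩
  rw [← hpdef] at hp
  obtain ⟨a, ha⟩ : ∃ a, a = p ^ m.factorization p := ⟨_, rfl⟩
  obtain ⟨b, hb⟩ : ∃ b, b = m / p ^ m.factorization p := ⟨_, rfl⟩
  have hab : a * b = m := by rw [ha, hb]; exact Nat.ordProj_mul_ordCompl_eq_self m p
  have hpb : ¬ p ∣ b := by rw [hb]; exact Nat.not_dvd_ordCompl hp hm0
  have hco : a.Coprime b := ha ▸ ((hp.coprime_iff_not_dvd).2 hpb).pow_left _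
  have hpa : p ∣ a := by
    rw [ha]
    exact dvd_pow_self p (hp.factorization_pos_of_dvd hm0 (hpdef ▸ Nat.minFac_dvd m)).ne'
  have hb1 : b ≠ 1 := fun e => hpp (isPrimePow_of_minFac_pow_factorization_eq
    (by rw [← hpdef, ← ha, ← hab, e, mul_one]) hm1)
  have hb0 : b ≠ 0 := fun e => hm0 (by rw [← hab, e, mul_zero])
  have ha0 : 0 < a := by rw [ha]; exact pow_pos hp.pos _
  rcases hp.eq_two_or_odd with rfl | hodd
  · have hb2 : b % 2 = 1 := Nat.two_dvd_ne_zero.1 hpb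
    have h4 : 4 ∣ a := by
      rw [ha]
      rcases Nat.lt_or_ge (m.factorization 2) 2 with hlt | hge
      · exfalso
        have : a = 2 := by
          obtain h | h : m.factorization 2 = 0 ∨ m.factorization 2 = 1 := by omega
          · rw [ha, h] at hpa; simp at hpa
          · rw [ha, h, pow_one]
        subst this
        omega
      · exact pow_dvd_pow 2 hge
    exact ⟨a, b, hab.symm, hco, by obtain ⟨c, rfl⟩ := h4; omega, by omega, hb2, Or.inr h4⟩
  · have hm2 : ¬ 2 ∣ m := fun h => by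
      have := Nat.minFac_le_of_dvd le_rfl h
      rw [← hpdef] at this
      have := hp.two_le
      omega
    have ha2 : ¬ 2 ∣ a := fun h => hm2 (hab ▸ h.mul_right b)
    have hb2 : ¬ 2 ∣ b := fun h => hm2 (hab ▸ h.mul_left a)
    refine ⟨a, b, hab.symm, hco, ?_, by omega, by omega, Or.inl (by omega)⟩
    have := Nat.le_of_dvd ha0 hpa
    have := hp.two_le
    omega

theorem exists_prime {a b : ℕ} (hco : a.Coprime b) (ha : 3 ≤ a) (hb : 1 < b) (N : ℕ) :
    ∃ r c d : ℕ, r.Prime ∧ N < r ∧ r = 1 + a * (1 + a * c) ∧ r + 1 = b * (1 + b * d) := by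
  obtain ⟨z, hza, hzb⟩ := Nat.chineseRemainder (hco.pow 2 2) (1 + a) (b ^ 2 + (b - 1))
  have hca : z.Coprime (a ^ 2) := by
    rw [Nat.Coprime, hza.gcd_eq]
    exact Nat.Coprime.pow_right 2 (by simp)
  have hcb : z.Coprime (b ^ 2) := by
    rw [Nat.Coprime, hzb.gcd_eq]
    refine Nat.Coprime.pow_right 2 (Nat.coprime_of_dvd fun p hp h1 h2 => ?_)
    have h3 : p ∣ b ^ 2 + (b - 1) + 1 := by
      rw [show b ^ 2 + (b - 1) + 1 = b ^ 2 + b by omega]
      exact dvd_add (dvd_pow h2 two_ne_zero) h2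
    exact hp.not_dvd_one ((Nat.dvd_add_right h1).1 h3)
  obtain ⟨r, hr, hrp, hrz⟩ := Nat.forall_exists_prime_gt_and_modEq (N + a ^ 2 + a + b ^ 2 + b)
    (q := a ^ 2 * b ^ 2) (a := z) (by positivity) (hca.mul_right hcb)
  have h1 : a ^ 2 ∣ r - (1 + a) :=
    (Nat.modEq_iff_dvd' (by omega)).1 ((hrz.of_mul_right _).trans hza).symm
  have h2 : b ^ 2 ∣ r - (b ^ 2 + (b - 1)) :=
    (Nat.modEq_iff_dvd' (by omega)).1 ((hrz.of_mul_left _).trans hzb).symm
  obtain ⟨c, hc⟩ := h1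
  obtain ⟨d, hd⟩ := h2
  refine ⟨r, c, d + 1, hrp, by omega, ?_, ?_⟩
  · rw [mul_add, mul_one, ← mul_assoc, ← pow_two, ← hc]; omega
  · rw [mul_add b 1, mul_one, ← mul_assoc, ← pow_two, mul_add, mul_one, ← hd]; omega

theorem not_hallNumber {m : ℕ} (hm : 2 ≤ m) (hpp : ¬ IsPrimePow m) (h2 : m % 4 ≠ 2)
    (h12 : m ≠ 12) (h24 : m ≠ 24) (h60 : m ≠ 60) :
    ∃ (G : Type) (_ : Group G) (_ : Finite G), m ∣ Nat.card G ∧ m.Coprime (Nat.card G / m) ∧
      ∀ H : Subgroup G, Nat.card H ≠ m := by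
  obtain ⟨a, b, hab, hco, ha, hb, hb2, ha4⟩ := exists_split hm hpp h2
  obtain ⟨r, c, d, hr, hrm, hra, hrb⟩ := exists_prime hco ha hb (m + 3)
  haveI := Fact.mk hr
  have hrodd : r % 2 = 1 := hr.eq_two_or_odd.resolve_left (by omega)
  have hgcd : Nat.gcd 2 (Fintype.card (ZMod r) - 1) = 2 :=
    Nat.gcd_eq_left (by rw [ZMod.card]; omega)
  have hN := Linear.Two.card_PSL_two (F := ZMod r)
  rw [hgcd, ZMod.card] at hN
  have hsq : r ^ 2 - 1 = (r + 1) * (r - 1) := by rw [← Nat.sq_sub_sq, one_pow]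
  obtain ⟨u, hu⟩ : ∃ u, u = 1 + a * c := ⟨_, rfl⟩
  obtain ⟨w, hw⟩ : ∃ w, w = 1 + b * d := ⟨_, rfl⟩
  rw [← hu] at hra
  rw [← hw] at hrb
  have hr1 : r - 1 = a * u := by omega
  rw [hsq, hr1, hrb, show r * (b * w * (a * u)) = m * (r * u * w) by rw [hab]; ring] at hN
  -- common prime divisors of `r ± 1`
  have hboth : ∀ p : ℕ, p ∣ r - 1 → p ∣ r + 1 → p ∣ 2 := fun p h1 h3 => by
    have := Nat.dvd_sub h3 h1
    rwa [show r + 1 - (r - 1) = 2 by omega] at this
  have ham : a ∣ m := hab ▸ dvd_mul_right a b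
  have hbm : b ∣ m := hab ▸ dvd_mul_left b a
  -- `m` cannot divide `r ± 1`
  have hplus : ¬ m ∣ r + 1 := fun h => by
    have := Nat.le_of_dvd two_pos (hboth a (hr1 ▸ dvd_mul_right a u) (ham.trans h))
    omega
  have hminus : ¬ m ∣ r - 1 := fun h => by
    have := Nat.le_of_dvd two_pos (hboth b (hbm.trans h) (hrb ▸ dvd_mul_right b w))
    obtain rfl : b = 2 := by omega
    omega
  have hrco : m.Coprime r := ((hr.coprime_iff_not_dvd).2 fun h => by
    have := Nat.le_of_dvd (by omega) h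
    omega).symm
  -- the even case
  have hw4 : a % 2 = 0 → w % 4 % 2 = 0 ∧ (r * u * w) % 4 = 2 := fun hev => by
    have h4 : 4 ∣ a := ha4.resolve_left (by omega)
    obtain ⟨k, rfl⟩ := h4
    have hu2 : u % 2 = 1 := by
      rw [hu, mul_assoc]; omega
    have hw2 : (b * w) % 4 = 2 := by
      rw [← hrb, hra, mul_assoc]; omega
    have hw' : w % 4 = 2 := by
      rw [Nat.mul_mod] at hw2
      have hb4 : b % 4 = 1 ∨ b % 4 = 3 := by omega
      rcases hb4 with e | e <;> rw [e] at hw2 <;> omega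
    refine ⟨by omega, ?_⟩
    have hru : (r * u) % 2 = 1 := by rw [Nat.mul_mod, hrodd, hu2]
    rw [Nat.mul_mod, hw']
    omega
  have hY : 2 ∣ r * u * w := by
    rcases Nat.mod_two_eq_zero_or_one a with e | e
    · have := (hw4 e).2
      omega
    · have hm2 : ¬ 2 ∣ m := by
        rw [Nat.two_dvd_ne_zero, hab, Nat.mul_mod, e, hb2]
      exact ((Nat.prime_two.dvd_mul).1 ⟨_, hN.symm⟩).resolve_left hm2
  obtain ⟨X, hX⟩ := hY
  have hNX : Nat.card (Matrix.ProjectiveSpecialLinearGroup (Fin 2) (ZMod r)) = m * X := by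
    rw [hX, ← mul_assoc, mul_comm m 2, mul_assoc] at hN
    exact Nat.eq_of_mul_eq_mul_left two_pos hN
  refine ⟨Matrix.ProjectiveSpecialLinearGroup (Fin 2) (ZMod r), inferInstance, inferInstance,
    ⟨X, hNX⟩, ?_, ?_⟩
  · rw [hNX, Nat.mul_div_cancel_left _ (by omega)]
    refine Nat.coprime_of_dvd fun p hp h1 h3 => ?_
    have hpY : p ∣ r * u * w := hX ▸ h3.mul_left 2
    have hpr : ¬ p ∣ r := fun h => by
      rw [Nat.prime_dvd_prime_iff_eq hp hr] at h
      subst h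
      exact (hr.coprime_iff_not_dvd).1 hrco.symm h1
    have hp2 : p ∣ 2 → False := fun h => by
      rw [Nat.prime_dvd_prime_iff_eq hp Nat.prime_two] at h
      subst h
      rw [hab] at h1
      have hev : a % 2 = 0 := by
        rcases (Nat.prime_two.dvd_mul).1 h1 with h | h <;> omega
      have := (hw4 hev).2
      omega
    have hpu : p ∣ a → ¬ p ∣ u := fun h hu' => by
      rw [hu] at hu'
      exact hp.not_dvd_one ((Nat.dvd_add_left (h.mul_right c)).1 hu')
    have hpw : p ∣ b → ¬ p ∣ w := fun h hw' => by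
      rw [hw] at hw'
      exact hp.not_dvd_one ((Nat.dvd_add_left (h.mul_right d)).1 hw')
    rcases (hp.dvd_mul).1 hpY with h | h
    · rcases (hp.dvd_mul).1 h with h | h
      · exact hpr h
      · rcases (hp.dvd_mul).1 (hab ▸ h1) with h' | h'
        · exact hpu h' h
        · exact hp2 (hboth p (hr1 ▸ h.mul_left a) (hrb ▸ h'.mul_right w))
    · rcases (hp.dvd_mul).1 (hab ▸ h1) with h' | h'
      · exact hp2 (hboth p (hr1 ▸ h'.mul_right u) (hrb ▸ h.mul_left b))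
      · exact hpw h' h
  intro H hH
  rcases Dickson.card_subgroup_cases r H with ⟨k, hk, hHk⟩ | hB | hS | ⟨s, j, -, hs, hsub⟩
  · have hd : ∀ e, 2 ∣ e → k ∣ e / 2 → m ∣ e := fun e he hk' => by
      have h2k : 2 * k ∣ e := by
        have := Nat.mul_dvd_mul_left 2 hk'
        rwa [Nat.mul_div_cancel' he] at this
      rcases hHk with h | h
      · rw [← hH, h]; exact (dvd_mul_left k 2).trans h2k
      · rw [← hH, h]; exact h2k
    rw [hgcd, ZMod.card] at hk
    rcases hk with hk | hk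
    · exact hplus (hd _ (by omega) hk)
    · exact hminus (hd _ (by omega) hk)
  · rw [hgcd, ZMod.card, hH] at hB
    exact hminus (hrco.dvd_of_dvd_mul_left ((dvd_mul_left m 2).trans hB))
  · omega
  · rw [ZMod.card] at hs
    obtain ⟨rfl, -⟩ := (hr.pow_eq_iff).1 hs
    refine (hr.coprime_iff_not_dvd).1 hrco.symm ?_
    rcases hsub with ⟨-, h⟩ | h
    · rw [hH] at h
      exact ((Nat.prime_two.coprime_iff_not_dvd).2 (by omega) : Nat.Coprime 2 s).symm.dvd_of_dvd_mul_left ⟨_, h⟩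
    · exact ⟨_, hH ▸ h⟩

end Cfsg.Lib.HallNumbers
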