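import Cfsg.Agent.Lib.E8Cent.Block

/-!
# The section of an involution with centralizer `S O`, `S` elementary abelian of order eight

The characters of the principal two-block take one integer value on `t O`; these integers form a vector
of norm eight, orthogonal to the degrees, and the sum of their cubes over the degrees counts the pairs of
involutions in the centralizer whose product lies in `t O`.
-/

set_option autoImplicit false
set_option linter.unusedSectionVars false
set_option linter.style.haveILetI false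

namespace Cfsg.Lib.HallNumbers

open Cfsg Cfsg.Lib.Block Cfsg.Lib.E8Cent
open scoped ComplexConjugate

universe u

variable {X : Type u} [Group X] [Fintype X]

/-- An involution `t` whose centralizer is an odd normal subgroup times an elementary abelian group of order
eight all whose involutions are conjugate to `t`. -/
structure Section8 (t : X) (S O : Subgroup X) : Prop where
  ord : orderOf t = 2
  memS : t ∈ S
  card : Nat.card S = 8
  sq : ∀ s ∈ S, s * s = 1
  fused : ∀ s ∈ S, s ≠ 1 → IsConj t s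
  S_le : S ≤ Subgroup.centralizer ({t} : Set X)
  O_le : O ≤ Subgroup.centralizer ({t} : Set X)
  odd : ¬ 2 ∣ Nat.card O
  normal : ∀ c ∈ Subgroup.centralizer ({t} : Set X), ∀ k ∈ O, c * k * c⁻¹ ∈ O
  gen : ∀ c ∈ Subgroup.centralizer ({t} : Set X), ∃ s ∈ S, ∃ k ∈ O, c = s * k

/-- The number of pairs of involutions of `C(t)` with product in `t O`. -/
noncomputable def pairCount (t : X) (O : Subgroup X) : ℕ :=
  Nat.card {p : X × X // p.1 ∈ Subgroup.centralizer ({t} : Set X) ∧ p.2 ∈ Subgroup.centralizer ({t} : Set X) ∧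
    orderOf p.1 = 2 ∧ orderOf p.2 = 2 ∧ t⁻¹ * (p.1 * p.2) ∈ O}

/-- The conditions satisfied by the values on `t O`. -/
structure Column (t : X) (S O : Subgroup X) (A : IrrCharacter X → ℤ) : Prop where
  norm : ∑ χ, A χ ^ 2 = 8
  orth : ∑ χ, A χ * (charDegree (χ : X → ℂ) : ℤ) = 0
  triv : A (trivChar X) = 1
  cong : ∀ χ, A χ ≠ 0 → ∃ n : ℕ, (charDegree (χ : X → ℂ) : ℤ) + 7 * A χ = 8 * n
  const : ∀ χ : IrrCharacter X, (∀ k ∈ O, (χ : X → ℂ) (t * k) = (χ : X → ℂ) 1) →
    A χ = (charDegree (χ : X → ℂ) : ℤ)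
  count : (Nat.card X : ℚ) * ∑ χ, (A χ : ℚ) ^ 3 / (charDegree (χ : X → ℂ) : ℚ) =
    64 * (Nat.card O : ℚ) * (pairCount t O : ℚ)

/-- A character restricted to a subgroup with a single value off the identity. -/
theorem exists_nat_avg (H : Subgroup X) {t : X} (χ : IrrCharacter X)
    (hH : ∀ h ∈ H, h ≠ 1 → (χ : X → ℂ) h = (χ : X → ℂ) t) :
    ∃ n : ℕ, (χ : X → ℂ) 1 + ((Nat.card H : ℂ) - 1) * (χ : X → ℂ) t = (Nat.card H : ℂ) * n := by
  classical
  haveI := Fintype.ofFinite H
  obtain ⟨n, hn⟩ := (χ.2.isCharacter.comp H.subtype).exists_nat_classInner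
    (trivChar (↥H)).2.isCharacter
  refine ⟨n, ?_⟩
  rw [← hn, classInner, ← mul_assoc, mul_inv_cancel₀ (Nat.cast_ne_zero.2 Nat.card_pos.ne'), one_mul,
    ← Finset.add_sum_erase _ _ (Finset.mem_univ (1 : H))]
  simp only [trivChar_coe, map_one, mul_one, Subgroup.coe_subtype, OneMemClass.coe_one]
  rw [Finset.sum_congr rfl (g := fun _ => (χ : X → ℂ) t) fun (x : ↥H) hx =>
    hH x x.2 fun e => (Finset.mem_erase.1 hx).1 (Subtype.ext e)]
  rw [Finset.sum_const, Finset.card_erase_of_mem (Finset.mem_univ _), Finset.card_univ, nsmul_eq_mul,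
    ← Nat.card_eq_fintype_card, Nat.cast_sub Nat.card_pos, Nat.cast_one]

variable {t : X} {S O : Subgroup X} (h : Section8 t S O)
include h

theorem Section8.mul_self_t : t * t = 1 := by
  rw [← pow_two, ← h.ord, pow_orderOf_eq_one]

theorem Section8.inter {s : X} (hs : s ∈ S) (hO : s ∈ O) : s = 1 := by
  by_contra h1
  refine h.odd ?_
  have e : orderOf (⟨s, hO⟩ : O) = 2 := by
    rw [Subgroup.orderOf_mk]
    exact orderOf_eq_prime (by rw [pow_two, h.sq s hs]) h1
  exact e ▸ orderOf_dvd_natCard _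

open Classical in
/-- The centralizer modulo `O` has order eight and exponent two. -/
theorem Section8.quot [(O.subgroupOf (Subgroup.centralizer ({t} : Set X))).Normal] :
    Nat.card (↥(Subgroup.centralizer ({t} : Set X)) ⧸ O.subgroupOf (Subgroup.centralizer ({t} : Set X))) = 8 := by
  rw [← h.card]
  symm
  refine Nat.card_congr (Equiv.ofBijective
    (fun s : S => ((⟨s.1, h.S_le s.2⟩ : ↥(Subgroup.centralizer ({t} : Set X))) :
      ↥(Subgroup.centralizer ({t} : Set X)) ⧸ O.subgroupOf _)) ⟨fun s s' e => ?_, fun q => ?_⟩)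
  · rw [QuotientGroup.eq, Subgroup.mem_subgroupOf] at e
    exact Subtype.ext (inv_mul_eq_one.1 (h.inter (mul_mem (inv_mem s.2) s'.2) e))
  · obtain ⟨c, rfl⟩ := QuotientGroup.mk_surjective q
    obtain ⟨s, hs, k, hk, e⟩ := h.gen c c.2
    refine ⟨⟨s, hs⟩, ?_⟩
    rw [QuotientGroup.eq, Subgroup.mem_subgroupOf]
    show s⁻¹ * (c : X) ∈ O
    rwa [e, inv_mul_cancel_left]

/-- All involutions of the centralizer are conjugate to `t`. -/
theorem Section8.isConj_of_mem {a : X} (ha : a ∈ Subgroup.centralizer ({t} : Set X)) (ha2 : orderOf a = 2) :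
    IsConj t a := by
  classical
  haveI : Fact (Nat.Prime 2) := ⟨Nat.prime_two⟩
  set C := Subgroup.centralizer ({t} : Set X)
  haveI : (O.subgroupOf C).Normal := ⟨fun k hk c => h.normal c c.2 k hk⟩
  haveI := Fintype.ofFinite C
  have hT8 : Nat.card ↥(S.subgroupOf C) = 8 :=
    (Nat.card_congr (Subgroup.subgroupOfEquivOfLe h.S_le).toEquiv).trans h.card
  have hidx : ¬ 2 ∣ (S.subgroupOf C).index := by
    intro hd
    refine h.odd ?_
    have e := (S.subgroupOf C).card_mul_index
    rw [hT8, Subgroup.card_eq_card_quotient_mul_card_subgroup (O.subgroupOf C), h.quot,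
      Nat.card_congr (Subgroup.subgroupOfEquivOfLe h.O_le).toEquiv] at e
    rwa [← Nat.eq_of_mul_eq_mul_left (by norm_num) e]
  let T : Sylow 2 C := (IsPGroup.of_card (p := 2) (n := 3) hT8).toSylow hidx
  obtain ⟨T', hT'⟩ := (IsPGroup.of_card (p := 2) (n := 1) (by
    rw [Nat.card_zpowers, Subgroup.orderOf_mk, ha2, pow_one]) :
      IsPGroup 2 ↥(Subgroup.zpowers (⟨a, ha⟩ : C))).exists_le_sylow
  obtain ⟨c, hc⟩ := MulAction.exists_smul_eq C T' T
  have hm : c * ⟨a, ha⟩ * c⁻¹ ∈ (T : Subgroup C) := by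
    rw [← hc, Sylow.coe_subgroup_smul]
    exact Subgroup.smul_mem_pointwise_smul _ _ _ (hT' (Subgroup.mem_zpowers _))
  have hm' : (c : X) * a * (c : X)⁻¹ ∈ S := hm
  have h1 : (c : X) * a * (c : X)⁻¹ ≠ 1 := fun e => by
    rw [conj_eq_one_iff] at e
    rw [e, orderOf_one] at ha2
    norm_num at ha2
  exact (h.fused _ hm' h1).trans (isConj_iff.2 ⟨(c : X)⁻¹, by group⟩)

/-- An element which inverts an element of `t O` centralizes `t`. -/
theorem Section8.mem_cent_of_inverts {a k : X} (hk : k ∈ O) (e : a * (t * k) * a⁻¹ = (t * k)⁻¹) :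
    a ∈ Subgroup.centralizer ({t} : Set X) := by
  have hc : Commute t k := (Subgroup.mem_centralizer_singleton_iff.1 (h.O_le hk)).symm
  have hpow : (t * k) ^ Nat.card O = t := by
    have hk1 : k ^ Nat.card O = 1 := congrArg Subtype.val (pow_card_eq_one' (G := O) (x := ⟨k, hk⟩))
    obtain ⟨j, hj⟩ := Nat.odd_iff.2 (Nat.two_dvd_ne_zero.1 h.odd)
    rw [hc.mul_pow, hk1, mul_one, hj, pow_succ, pow_mul, pow_two, h.mul_self_t, one_pow, one_mul]
  have := congrArg (· ^ Nat.card O) e
  simp only [conj_pow, inv_pow, hpow] at this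
  rw [inv_eq_of_mul_eq_one_right h.mul_self_t] at this
  exact Subgroup.mem_centralizer_singleton_iff.2 (mul_inv_eq_iff_eq_mul.1 this)

open Classical in
theorem Section8.exists_column : ∃ A : IrrCharacter X → ℤ, Column t S O A := by
  haveI : Fact (Nat.Prime 2) := ⟨Nat.prime_two⟩
  obtain ⟨M, hM⟩ := exists_isPModular (q := 2) Nat.prime_two
  obtain ⟨C, hC⟩ : ∃ C, C = Subgroup.centralizer ({t} : Set X) := ⟨_, rfl⟩
  subst hC
  set C := Subgroup.centralizer ({t} : Set X) with hC
  haveI := Fintype.ofFinite C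
  obtain ⟨O', hO'⟩ : ∃ O', O' = O.subgroupOf C := ⟨_, rfl⟩
  haveI hn : O'.Normal := by rw [hO']; exact ⟨fun k hk c => h.normal c c.2 k hk⟩
  haveI := Fintype.ofFinite (C ⧸ O')
  haveI := Fintype.ofFinite O'
  have hmemO : ∀ c : C, c ∈ O' ↔ (c : X) ∈ O := fun c => by rw [hO', Subgroup.mem_subgroupOf]
  have hOcard : Nat.card O' = Nat.card O := by
    rw [hO']; exact Nat.card_congr (Subgroup.subgroupOfEquivOfLe h.O_le).toEquiv
  have hOdd : ¬ 2 ∣ Nat.card O' := by rw [hOcard]; exact h.odd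
  have h8 : Nat.card (C ⧸ O') = 8 := by subst hO'; exact h.quot
  have hQ2 : IsPGroup 2 ↥(⊤ : Subgroup (C ⧸ O')) :=
    (IsPGroup.of_card (p := 2) (n := 3) h8).to_subgroup _
  have hQc : Subgroup.centralizer ((⊤ : Subgroup (C ⧸ O')) : Set (C ⧸ O')) ≤ ⊤ := le_top
  have hu : ∃ k : ℕ, orderOf t = 2 ^ k := ⟨1, by rw [h.ord, pow_one]⟩
  have hHu : ∀ c : C, Commute t (c : X) := fun c =>
    (Subgroup.mem_centralizer_singleton_iff.1 c.2).symm
  have hCt : Subgroup.centralizer ({t} : Set X) ≤ C := le_rfl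
  set b0 := principalBlock M C with hb0
  set B := principalBlock M X with hB
  have hind : indSet M C B = b0 := indSet_principal hM hu hHu hCt
  have hindB : IsInducedBlock M C b0 B := by
    have h' : trivChar C ∈ indSet M C B := by rw [hind]; exact trivChar_mem_principal hM
    have e := eq_blockOf_of_mem hM isPBlock_principal (trivChar_mem_principal (G := C) hM)
    rw [hb0, e]
    exact h'
  have hb0eq := principalBlock_eq (C := C) hM hOdd hQ2 hQc
  have hregO : ∀ k : C, k ∈ O' → IsPRegular 2 k := fun k hk =>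
    (isPRegular_mk_iff O' hOdd k).1 (by simp [IsPRegular, (QuotientGroup.eq_one_iff k).2 hk])
  have hregX : ∀ y : C, IsPRegular 2 y → IsPRegular 2 (y : X) := fun y hy => by
    rwa [IsPRegular, orderOf_submonoid]
  have hr1 : IsPRegular 2 (1 : C) := by simp [IsPRegular]
  -- the values on `t O`
  have hconst : ∀ χ ∈ B, ∀ k ∈ O', (χ : X → ℂ) (t * (k : C)) = (χ : X → ℂ) t := by
    intro χ hχ k hk
    have hz : ∀ z : C, IsPRegular 2 z → (χ : X → ℂ) (t * (z : X)) =
        ∑ η ∈ b0.toFinset, classInner (secFn t C (χ : X → ℂ)) (η : C → ℂ) * (η : C → ℂ) z := by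
      intro z hz
      have h1 := blockPart_indSet hM hu hHu hCt (B := B) isPBlock_principal χ hz
      rw [if_pos hχ, hind] at h1
      refine h1.symm.trans ?_
      simp only [blockPart, finsum_mem_eq_toFinset_sum]
      congr!
    have e := hz 1 hr1
    rw [Subgroup.coe_one, mul_one] at e
    rw [hz k (hregO k hk), e]
    refine Finset.sum_congr rfl fun η hη => ?_
    have hm := Set.mem_toFinset.1 hη
    rw [hb0, hb0eq] at hm
    rw [hm k hk]
  have hout : ∀ χ ∉ B, ∑ k : O', (χ : X → ℂ) (t * ((k : C) : X)) = 0 := by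
    intro χ hχ
    have hh := sum_blockCoeff_mul_char_eq_zero hM hindB
      (centralizer_pPt_le hu hHu hCt hr1 (Subgroup.mem_centralizer_singleton_iff.2 rfl)) hχ
    simp only [hb0, blockCoeff_principal hM hOdd hQ2 hQc, ite_mul, zero_mul, ← Finset.sum_filter] at hh
    rw [← Finset.mul_sum, mul_eq_zero] at hh
    have h' := hh.resolve_left (inv_ne_zero (Nat.cast_ne_zero.2 Nat.card_pos.ne'))
    rw [Finset.sum_subtype _ (p := fun k => k ∈ O') (by simp) _] at h'
    refine Eq.trans (Finset.sum_congr rfl fun k _ => ?_) h'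
    simpa using congrArg (χ : X → ℂ) (hHu (k : C)).eq
  -- integrality
  have hord2 : ∀ g ∈ Subgroup.zpowers t, g ≠ 1 → g = t := by
    rintro g ⟨i, rfl⟩ hg
    rcases Int.even_or_odd i with ⟨j, rfl⟩ | ⟨j, rfl⟩
    · exact absurd (by simp [zpow_add, ← (Commute.refl t).mul_zpow, h.mul_self_t]) hg
    · simp [zpow_add, two_mul, ← (Commute.refl t).mul_zpow, h.mul_self_t]
  have hint : ∀ χ : IrrCharacter X, ∃ a : ℤ, (χ : X → ℂ) t = a := fun χ => by
    obtain ⟨n, hn⟩ := exists_nat_avg (Subgroup.zpowers t) χ (t := t) fun g hg h1 => by rw [hord2 g hg h1]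
    rw [Nat.card_zpowers, h.ord, χ.2.apply_one_eq_charDegree] at hn
    refine ⟨2 * n - charDegree (χ : X → ℂ), ?_⟩
    push_cast at hn ⊢
    linear_combination hn
  choose a ha using hint
  refine ⟨fun χ => if χ ∈ B then a χ else 0, ?_⟩
  set A : IrrCharacter X → ℤ := fun χ => if χ ∈ B then a χ else 0 with hA
  have hAin : ∀ χ, χ ∈ B → (A χ : ℂ) = (χ : X → ℂ) t := fun χ hχ => by rw [ha]; simp [hA, hχ]
  have hAsum : ∀ χ : IrrCharacter X,
      ∑ k : O', (χ : X → ℂ) (t * ((k : C) : X)) = (Nat.card O : ℂ) * A χ := by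
    intro χ
    by_cases hχ : χ ∈ B
    · rw [Finset.sum_congr rfl (g := fun _ => (χ : X → ℂ) t) fun k _ => hconst χ hχ _ (Subtype.property k), hAin χ hχ,
        Finset.sum_const, Finset.card_univ, nsmul_eq_mul, ← Nat.card_eq_fintype_card, hOcard]
    · rw [hout χ hχ]; simp [hA, hχ]
  have hdeg : ∀ χ : IrrCharacter X, (χ : X → ℂ) 1 = (charDegree (χ : X → ℂ) : ℂ) := fun χ =>
    χ.2.apply_one_eq_charDegree
  refine ⟨?_, ?_, ?_, ?_, ?_, ?_⟩
  · -- norm
    have h11 : regKer b0 1 1 = 8 := by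
      rw [hb0, regKer_principal hM hOdd hQ2 hQc, if_pos (IsConj.refl _)]
      rw [show Subgroup.centralizer ({((1 : C) : C ⧸ O')} : Set (C ⧸ O')) = ⊤ from
        eq_top_iff.2 fun q _ => Subgroup.mem_centralizer_singleton_iff.2 (by simp),
        Subgroup.card_top, h8]
      norm_num
    have e := sum_block_mul_conj hM hu hHu hCt (B := B) isPBlock_principal hr1 hr1
    rw [hind, h11, Subgroup.coe_one, mul_one] at e
    have : ((∑ χ, A χ ^ 2 : ℤ) : ℂ) = ((8 : ℤ) : ℂ) := by
      push_cast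
      rw [← e, ← Finset.sum_subset (Finset.subset_univ B.toFinset)]
      · refine Finset.sum_congr rfl fun χ hχ => ?_
        rw [Set.mem_toFinset] at hχ
        rw [hAin χ hχ, ha, map_intCast, pow_two]
      · intro χ _ hχ
        rw [Set.mem_toFinset] at hχ
        simp [hA, hχ]
    exact_mod_cast this
  · -- orthogonality to the degrees
    have e : ∑ χ ∈ B.toFinset, (χ : X → ℂ) 1 * conj ((χ : X → ℂ) t) = 0 := by
      rw [← finsum_mem_eq_toFinset_sum]
      refine sum_block_mul_conj_eq_zero hM (vInt_indVec hM isPBlock_principal) ?_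
      have := pPt_mul_reg hu (hHu 1) (hregX 1 hr1)
      rw [Subgroup.coe_one, mul_one] at this
      rw [this, (pPt_eq_one_iff (p := 2) (1 : X)).2 (by simp)]
      intro h'
      rw [isConj_one_right] at h'
      have := h.ord
      rw [h', orderOf_one] at this
      norm_num at this
    have : ((∑ χ, A χ * (charDegree (χ : X → ℂ) : ℤ) : ℤ) : ℂ) = ((0 : ℤ) : ℂ) := by
      push_cast
      rw [← e, ← Finset.sum_subset (Finset.subset_univ B.toFinset)]
      · refine Finset.sum_congr rfl fun χ hχ => ?_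
        rw [Set.mem_toFinset] at hχ
        rw [hAin χ hχ, hdeg, ha, map_intCast, mul_comm]
      · intro χ _ hχ
        rw [Set.mem_toFinset] at hχ
        simp [hA, hχ]
    exact_mod_cast this
  · have h1 := hAin _ (trivChar_mem_principal hM)
    simp only [trivChar_coe] at h1
    exact_mod_cast h1
  · intro χ hχ
    have hB' : χ ∈ B := by
      by_contra hn
      exact hχ (by simp [hA, hn])
    obtain ⟨n, hn⟩ := exists_nat_avg S χ (t := t) fun s hs hs1 => by
      obtain ⟨c, hc⟩ := isConj_iff.1 (h.fused s hs hs1)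
      rw [← hc, χ.2.isClassFunction]
    refine ⟨n, ?_⟩
    rw [h.card, hdeg, ← hAin χ hB'] at hn
    push_cast at hn
    have : (((charDegree (χ : X → ℂ) : ℤ) + 7 * A χ : ℤ) : ℂ) = ((8 * n : ℤ) : ℂ) := by
      push_cast
      linear_combination hn
    exact_mod_cast this
  · intro χ hk
    have e := hAsum χ
    rw [Finset.sum_congr rfl (g := fun _ => (χ : X → ℂ) 1) fun k _ => hk _ ((hmemO _).1 k.2),
      Finset.sum_const, Finset.card_univ, nsmul_eq_mul, ← Nat.card_eq_fintype_card, hOcard, hdeg] at e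
    have := mul_left_cancel₀ (Nat.cast_ne_zero.2 Nat.card_pos.ne') e
    exact (by exact_mod_cast this.symm)
  · -- the count
    have hC8 : Nat.card C = 8 * Nat.card O := by
      rw [Subgroup.card_eq_card_quotient_mul_card_subgroup O', h8, hOcard]
    have hcl : ((Char.classFinset t).card : ℂ) * (8 * (Nat.card O : ℂ)) = (Nat.card X : ℂ) := by
      have := C.index_mul_card
      rw [hC8] at this
      rw [Char.card_classFinset]
      exact_mod_cast this
    set P : O' → Finset (X × X) := fun k => (Char.classFinset t ×ˢ Char.classFinset t).filter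
      fun p => p.1 * p.2 = t * ((k : C) : X) with hP
    have hinvol : ∀ {q : X}, q ∈ Char.classFinset t → orderOf q = 2 := fun {q} hq => by
      obtain ⟨g, rfl⟩ := isConj_iff.1 (Char.mem_classFinset.1 hq)
      rw [← h.ord]
      exact (MulAut.conj g).orderOf_eq t
    have hN : pairCount t O = ∑ k : O', (P k).card := by
      rw [← Finset.card_sigma, ← Nat.card_eq_finsetCard, pairCount]
      have hval : ∀ s : (Finset.univ.sigma P : Finset _), s.1.2.1 ∈ C ∧ s.1.2.2 ∈ C ∧
          orderOf s.1.2.1 = 2 ∧ orderOf s.1.2.2 = 2 ∧ t⁻¹ * (s.1.2.1 * s.1.2.2) ∈ O := by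
        rintro ⟨⟨k, p⟩, hs⟩
        obtain ⟨hp, he⟩ := Finset.mem_filter.1 (Finset.mem_sigma.1 hs).2
        obtain ⟨h1, h2⟩ := Finset.mem_product.1 hp
        have ho1 := hinvol h1
        have ho2 := hinvol h2
        have e1 : p.1 * p.1 = 1 := by rw [← pow_two, ← ho1, pow_orderOf_eq_one]
        have e2 : p.2 * p.2 = 1 := by rw [← pow_two, ← ho2, pow_orderOf_eq_one]
        have hp1 : p.1 ∈ C := by
          refine h.mem_cent_of_inverts (k := ((k : C) : X)) ((hmemO _).1 k.2) ?_
          rw [← he, mul_inv_rev, inv_eq_of_mul_eq_one_right e1, inv_eq_of_mul_eq_one_right e2, ← mul_assoc,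
            e1, one_mul]
        have hp2 : p.2 ∈ C := by
          have htC : t ∈ C := Subgroup.mem_centralizer_singleton_iff.2 rfl
          rw [show p.2 = p.1⁻¹ * (t * ((k : C) : X)) by rw [← he, inv_mul_cancel_left]]
          exact mul_mem (inv_mem hp1) (mul_mem htC (k : C).2)
        refine ⟨hp1, hp2, ho1, ho2, ?_⟩
        show t⁻¹ * (p.1 * p.2) ∈ O
        rw [he, inv_mul_cancel_left]
        exact (hmemO _).1 k.2
      refine (Nat.card_congr (Equiv.ofBijective
        (fun s : (Finset.univ.sigma P : Finset _) => (⟨s.1.2, hval s⟩ : {p : X × X // p.1 ∈ C ∧ p.2 ∈ C ∧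
          orderOf p.1 = 2 ∧ orderOf p.2 = 2 ∧ t⁻¹ * (p.1 * p.2) ∈ O})) ⟨?_, ?_⟩)).symm
      · rintro ⟨⟨k, p⟩, hs⟩ ⟨⟨k', p'⟩, hs'⟩ e
        obtain rfl : p = p' := congrArg Subtype.val e
        have e' := ((Finset.mem_filter.1 (Finset.mem_sigma.1 hs).2).2).symm.trans
          (Finset.mem_filter.1 (Finset.mem_sigma.1 hs').2).2
        obtain rfl : k = k' := Subtype.ext (Subtype.ext (mul_left_cancel e'))
        rfl
      · rintro ⟨p, h1, h2, ho1, ho2, hk⟩
        refine ⟨⟨⟨⟨⟨_, h.O_le hk⟩, (hmemO _).2 hk⟩, p⟩, Finset.mem_sigma.2 ⟨Finset.mem_univ _,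
          Finset.mem_filter.2 ⟨Finset.mem_product.2 ⟨Char.mem_classFinset.2 (h.isConj_of_mem h1 ho1),
            Char.mem_classFinset.2 (h.isConj_of_mem h2 ho2)⟩, ?_⟩⟩⟩, rfl⟩
        show p.1 * p.2 = t * (t⁻¹ * (p.1 * p.2))
        rw [mul_inv_cancel_left]
    have hsum : (pairCount t O : ℂ) = ((Char.classFinset t).card : ℂ) * (Char.classFinset t).card /
        (Nat.card X : ℂ) * ((Nat.card O : ℂ) * ∑ χ, (A χ : ℂ) ^ 3 / (charDegree (χ : X → ℂ) : ℂ)) := by
      rw [hN, Nat.cast_sum]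
      simp only [hP]
      rw [Finset.sum_congr rfl fun (k : O') _ => Char.card_class_product t t (t * ((k : C) : X)), ← Finset.mul_sum,
        Finset.sum_comm, Finset.mul_sum Finset.univ _ (Nat.card O : ℂ)]
      congr 1
      refine Finset.sum_congr rfl fun χ _ => ?_
      rw [← Finset.sum_div, ← Finset.mul_sum, ← map_sum, hAsum, map_mul, map_natCast, map_intCast, hdeg]
      by_cases hχ : χ ∈ B
      · rw [← hAin χ hχ]; ring
      · simp [hA, hχ]
    have hXne : (Nat.card X : ℂ) ≠ 0 := Nat.cast_ne_zero.2 Nat.card_pos.ne'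
    have hfin : (Nat.card X : ℂ) * ∑ χ, (A χ : ℂ) ^ 3 / (charDegree (χ : X → ℂ) : ℂ) =
        64 * (Nat.card O : ℂ) * (pairCount t O : ℂ) := by
      rw [hsum, ← hcl]
      have hk : ((Char.classFinset t).card : ℂ) ≠ 0 :=
        Nat.cast_ne_zero.2 (Finset.card_ne_zero.2 ⟨t, Char.mem_classFinset.2 (IsConj.refl t)⟩)
      have hO0 : (Nat.card O : ℂ) ≠ 0 := Nat.cast_ne_zero.2 Nat.card_pos.ne'
      field_simp
      ring
    have : (((Nat.card X : ℚ) * ∑ χ, (A χ : ℚ) ^ 3 / (charDegree (χ : X → ℂ) : ℚ) : ℚ) : ℂ) =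
        ((64 * (Nat.card O : ℚ) * (pairCount t O : ℚ) : ℚ) : ℂ) := by
      push_cast
      exact hfin
    exact_mod_cast this

end Cfsg.Lib.HallNumbers
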